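import Cfsg.Agent.H61.Glue.Final23
import Cfsg.Agent.H93.NotSix

/-!
Double covers of the presented Fischer group Fi22 generated by nine letters in the positions of the diagram,
one of the two words of type E7 having the value one and the other the central involution: any two are
isomorphic, letter for letter.
-/

set_option autoImplicit false

namespace Cfsg.Agent.H2.FiCentral

open Cfsg.Spor Cfsg.Agent.H93
open Cfsg.Agent.H61.Glue (wval_mem wval_map relators_lifted)
open Cfsg.Agent.H70.FiTwentyTwo (ext9 tab wR wZ wM wval RelHolds gIx)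

variable {H H' : Type*} [Group H] [Group H']

/-- nine letters generating a double cover of Fi22 -/
structure Cover (A : H) (q : Fin 9 → H) : Prop where
  cen : ∀ g, Commute A g
  sq : A * A = 1
  ne : A ≠ 1
  rels : RelHolds tab (ext9 q)
  valR : wval (ext9 q) wR = 1
  valZ : wval (ext9 q) wZ = 1
  valM : wval (ext9 q) wM = A
  gen : Subgroup.closure (Set.range q) = ⊤
  iso : ∃ π : H →* Fi22, (∀ x, π (q (gIx x)) = PresentedGroup.of x) ∧ ∀ g, π g = 1 → g = 1 ∨ g = A

/-- the second coordinate is determined by the first -/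
theorem Cover.left_inj {A : H} {A' : H'} {q : Fin 9 → H} {q' : Fin 9 → H'} (L : Cover A q)
    (L' : Cover A' q') {g : H × H'}
    (hg : g ∈ Subgroup.closure (Set.range fun k => (q k, q' k))) (e : g.1 = 1) : g.2 = 1 := by
  set S := Subgroup.closure (Set.range fun k => (q k, q' k)) with hS
  let r : Fin 9 → ↥S := fun k => ⟨(q k, q' k), Subgroup.subset_closure ⟨k, rfl⟩⟩
  let p1 : ↥S →* H := (MonoidHom.fst _ _).comp S.subtype
  let p2 : ↥S →* H' := (MonoidHom.snd _ _).comp S.subtype
  have w1 : ∀ w, p1 (wval (ext9 r) w) = wval (ext9 q) w := fun w => (wval_map p1 w).symm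
  have w2 : ∀ w, p2 (wval (ext9 r) w) = wval (ext9 q') w := fun w => (wval_map p2 w).symm
  have both : ∀ {u v : ↥S}, p1 u = p1 v → p2 u = p2 v → u = v := fun h1 h2 =>
    Subtype.ext (Prod.ext h1 h2)
  have e1 : ∀ x, p1 (ext9 r x) = ext9 q x := fun x => by simp only [ext9]; split <;> rfl
  have e2 : ∀ x, p2 (ext9 r x) = ext9 q' x := fun x => by simp only [ext9]; split <;> rfl
  have hr : RelHolds tab (ext9 r) := by
    refine ⟨fun x => both ?_ ?_, fun x y h => both ?_ ?_, fun x y h => both ?_ ?_⟩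
    · rw [map_mul, map_one, e1]; exact L.rels.sq x
    · rw [map_mul, map_one, e2]; exact L'.rels.sq x
    · rw [map_mul, map_mul, e1, e1]; exact (L.rels.comm x y h).eq
    · rw [map_mul, map_mul, e2, e2]; exact (L'.rels.comm x y h).eq
    · simp only [map_mul, e1]; exact L.rels.braid x y h
    · simp only [map_mul, e2]; exact L'.rels.braid x y h
  set c0 := wval (ext9 r) wM with hc0def
  have hc0 : ∀ u, Commute c0 u := fun u => both (by
      rw [map_mul, map_mul, w1, L.valM]; exact (L.cen _).eq) (by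
      rw [map_mul, map_mul, w2, L'.valM]; exact (L'.cen _).eq)
  have hsq : c0 * c0 = 1 := both (by rw [map_mul, map_one, w1, L.valM, L.sq])
    (by rw [map_mul, map_one, w2, L'.valM, L'.sq])
  have : (Subgroup.zpowers c0).Normal := ⟨fun n hn k => by
    obtain ⟨i, rfl⟩ := hn
    rw [← ((hc0 k).zpow_left i).eq, mul_inv_cancel_right]
    exact ⟨i, rfl⟩⟩
  let π : ↥S →* ↥S ⧸ Subgroup.zpowers c0 := QuotientGroup.mk' _
  have e9 : ∀ x, ext9 (π ∘ r) x = π (ext9 r x) := fun x => by simp only [ext9]; split <;> simp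
  have hr' : RelHolds tab (ext9 (π ∘ r)) := by
    refine ⟨fun x => ?_, fun x y h => ?_, fun x y h => ?_⟩
    · rw [e9, ← map_mul, hr.sq, map_one]
    · rw [e9, e9]; exact (hr.comm x y h).map π
    · simp only [e9, ← map_mul, hr.braid x y h]
  have kR : wval (ext9 (π ∘ r)) wR = 1 := by
    rw [wval_map, show wval (ext9 r) wR = 1 from
      both (by rw [w1, map_one, L.valR]) (by rw [w2, map_one, L'.valR]), map_one]
  have kZ : wval (ext9 (π ∘ r)) wZ = 1 := by
    rw [wval_map, show wval (ext9 r) wZ = 1 from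
      both (by rw [w1, map_one, L.valZ]) (by rw [w2, map_one, L'.valZ]), map_one]
  have kM : wval (ext9 (π ∘ r)) wM = 1 := by
    rw [wval_map]
    exact (QuotientGroup.eq_one_iff _).mpr (Subgroup.mem_zpowers _)
  let f : Fi22 →* ↥S ⧸ Subgroup.zpowers c0 := PresentedGroup.toGroup (relators_lifted hr' kR kZ kM)
  obtain ⟨ρ, hρ, hker⟩ := L.iso
  let τ : ↥S →* Fi22 := ρ.comp p1
  -- the map back is a left inverse modulo the central letter word
  have htop : Subgroup.closure (Set.range r) = ⊤ := by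
    refine Subgroup.map_injective S.subtype_injective ?_
    rw [MonoidHom.map_closure, ← MonoidHom.range_eq_map, Subgroup.range_subtype, ← Set.range_comp]
    exact hS.symm
  have hcomp : f.comp τ = π := MonoidHom.eq_of_eqOn_dense htop (by
    rintro _ ⟨k, rfl⟩
    obtain ⟨x, rfl⟩ := H61.Glue.gIx_surj k
    show f (ρ (q (gIx x))) = π (r (gIx x))
    rw [hρ]
    exact PresentedGroup.toGroup.of _)
  have h1 : π ⟨g, hg⟩ = 1 := by
    rw [← hcomp]
    show f (ρ g.1) = 1
    rw [e, map_one, map_one]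
  rcases zpowers_invol hsq ((QuotientGroup.eq_one_iff _).mp h1) with h | h
  · exact congrArg Prod.snd (congrArg Subtype.val h)
  · exfalso
    have := congrArg p1 h
    rw [hc0def, w1, L.valM] at this
    exact L.ne (this.symm.trans e)

/-- two covers are isomorphic, letter for letter -/
theorem Cover.equiv {A : H} {A' : H'} {q : Fin 9 → H} {q' : Fin 9 → H'} (L : Cover A q)
    (L' : Cover A' q') : ∃ Ψ : H ≃* H', (∀ k, Ψ (q k) = q' k) ∧ Ψ A = A' := by
  set S := Subgroup.closure (Set.range fun k => (q k, q' k)) with hS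
  let p1 : ↥S →* H := (MonoidHom.fst _ _).comp S.subtype
  let p2 : ↥S →* H' := (MonoidHom.snd _ _).comp S.subtype
  have swap : ∀ g ∈ S, (g.2, g.1) ∈ Subgroup.closure (Set.range fun k => (q' k, q k)) := fun g hg => by
    have h1 := Subgroup.mem_map_of_mem (MulEquiv.prodComm (M := H) (N := H')).toMonoidHom hg
    rw [hS, MonoidHom.map_closure] at h1
    refine Subgroup.closure_mono ?_ h1
    rintro _ ⟨_, ⟨k, rfl⟩, rfl⟩
    exact ⟨k, rfl⟩
  have i1 : Function.Injective p1 := (injective_iff_map_eq_one p1).mpr fun g hg =>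
    Subtype.ext (Prod.ext hg (L.left_inj L' g.2 hg))
  have i2 : Function.Injective p2 := (injective_iff_map_eq_one p2).mpr fun g hg =>
    Subtype.ext (Prod.ext (L'.left_inj L (swap _ g.2) hg) hg)
  have s1 : Function.Surjective p1 := by
    rw [← MonoidHom.range_eq_top, ← top_le_iff, ← L.gen, Subgroup.closure_le]
    rintro _ ⟨k, rfl⟩
    exact ⟨⟨(q k, q' k), Subgroup.subset_closure ⟨k, rfl⟩⟩, rfl⟩
  have s2 : Function.Surjective p2 := by
    rw [← MonoidHom.range_eq_top, ← top_le_iff, ← L'.gen, Subgroup.closure_le]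
    rintro _ ⟨k, rfl⟩
    exact ⟨⟨(q k, q' k), Subgroup.subset_closure ⟨k, rfl⟩⟩, rfl⟩
  let Ψ : H ≃* H' :=
    (MulEquiv.ofBijective p1 ⟨i1, s1⟩).symm.trans (MulEquiv.ofBijective p2 ⟨i2, s2⟩)
  have hΨ : ∀ u : ↥S, Ψ (p1 u) = p2 u := fun u => by
    show p2 ((MulEquiv.ofBijective p1 ⟨i1, s1⟩).symm (p1 u)) = p2 u
    congr 1
    exact (MulEquiv.ofBijective p1 ⟨i1, s1⟩).symm_apply_apply u
  have hq : ∀ k, Ψ (q k) = q' k := fun k => hΨ ⟨(q k, q' k), Subgroup.subset_closure ⟨k, rfl⟩⟩
  refine ⟨Ψ, hq, ?_⟩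
  rw [← L.valM, ← L'.valM]
  exact (wval_map Ψ.toMonoidHom wM).symm.trans (by rw [show Ψ.toMonoidHom ∘ q = q' from funext hq])

end Cfsg.Agent.H2.FiCentral
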