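import Cfsg.Agent.H61.Glue.Engine

/-!
Gluing maps of neighbourhoods into a map of whole classes, when the target is only known to be a
conjugation invariant set of involutions: the image is closed under commuting.
-/

set_option autoImplicit false

namespace Cfsg.Agent.H2.FiCentral

open Cfsg.Agent.H93
open Cfsg.Agent.H61.Glue (TI Closed closed_nb commute_iff_conj Lvl IsExt Agree Sys conj_bijOn fix_conj conj_conj
  ext_cases not_both)

variable {G G' : Type*} [Group G] [Group G']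

/-- a conjugation invariant set of involutions -/
structure Inv (D : Set G) : Prop where
  sq : ∀ a ∈ D, a * a = 1
  conj_mem : ∀ g : G, ∀ a ∈ D, g * a * g⁻¹ ∈ D

theorem Inv.of_tt {D : Set G} (hD : TT D) : Inv D := ⟨hD.sq, hD.conj_mem⟩

theorem Inv.inv_eq {D : Set G} (hD : Inv D) {a : G} (ha : a ∈ D) : a⁻¹ = a :=
  inv_eq_of_mul_eq_one_left (hD.sq a ha)

theorem Inv.nb_conj {D : Set G} (hD : Inv D) (g : G) {a x : G} (hx : x ∈ nb D a) :
    g * x * g⁻¹ ∈ nb D (g * a * g⁻¹) :=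
  ⟨hD.conj_mem g x hx.1, fun e => hx.2.1 (mul_left_cancel (mul_right_cancel e)),
    hx.2.2.map (MulAut.conj g).toMonoidHom⟩

theorem Inv.closed_nb {D : Set G} (hD : Inv D) (a : G) : Closed (nb D a) := fun p hp =>
  ⟨hD.sq p hp.1, fun q hq => by
    have := hD.nb_conj p hq
    rwa [hD.inv_eq hp.1, (commute_iff_conj (hD.sq p hp.1)).mp hp.2.2.symm] at this⟩

theorem Inv.conj_nb {D : Set G} (hD : Inv D) (g a : G) :
    TI (fun x => g * x * g⁻¹) (nb D a) (nb D (g * a * g⁻¹)) := by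
  refine conj_bijOn g (fun x hx => hD.nb_conj g hx) fun x hx => ?_
  have := hD.nb_conj g⁻¹ hx
  rwa [show g⁻¹ * (g * a * g⁻¹) * g⁻¹⁻¹ = a by group, inv_inv] at this

theorem Inv.fix_conj {D : Set G} (hD : Inv D) {a x : G} (hx : x ∈ nb D a) (ha : a ∈ D) :
    a * x * a = x := (commute_iff_conj (hD.sq a ha)).mp hx.2.2

theorem Inv.conj_conj {D : Set G} (hD : Inv D) {a : G} (ha : a ∈ D) (v : G) :
    a * (a * v * a) * a = v := by
  rw [show a * (a * v * a) * a = a * a * v * (a * a) by group, hD.sq a ha, one_mul, mul_one]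

/-- common neighbours are connected by commuting -/
def Linked (D : Set G) : Prop :=
  ∀ a ∈ D, ∀ d ∈ D, ¬ Commute a d → ∀ z ∈ common D a d, ∀ w ∈ common D a d,
    Relation.ReflTransGen (fun p q => q ∈ common D a d ∧ Commute p q) z w

variable {D : Set G} {D' : Set G'}

theorem restrict (hD : TT D) (hD' : Inv D') {x y : G} {x' : G'} {f : G → G'}
    (hf : TI f (nb D x) (nb D' x')) (hy : y ∈ nb D x) :
    TI f (nb D x ∩ nb D y) (nb D' x' ∩ nb D' (f y)) := by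
  have hc := fun {p q} hp hq => hf.comm (closed_nb hD x) (hD'.closed_nb x') (p := p) (q := q) hp hq
  refine ⟨⟨fun v hv => ⟨hf.mem hv.1, (hf.mem hv.1).1, fun e => hv.2.2.1 (hf.1.injOn hv.1 hy e),
    (hc hy hv.1).mpr hv.2.2.2⟩, hf.1.injOn.mono Set.inter_subset_left, fun z hz => ?_⟩,
    fun p hp q hq => hf.2 p hp.1 q hq.1⟩
  obtain ⟨v, hv, rfl⟩ := hf.1.surjOn hz.1
  exact ⟨v, ⟨hv, hv.1, fun e => hz.2.2.1 (by rw [e]), (hc hy hv).mp hz.2.2.2⟩, rfl⟩

section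

variable (L : Lvl D) (hD' : Inv D') {a : G} {a' : G'} {φ : G → G'} (ha : a ∈ D)

include L hD' ha


theorem pair_cases {x y : G} {ψ χ : G → G'} (hx : x ∈ nb D a) (hy : y ∈ nb D a) (hxy : y ∈ nb D x)
    (h : IsExt D D' a a' φ x ψ) (h' : IsExt D D' a a' φ y χ) :
    Agree D x y ψ χ ∨ Agree D x y ψ (fun v => χ (a * v * a)) := by
  have htt := L.core.tt
  have hyx := nb_symm hx.1 hxy
  have haE : a ∈ nb D x ∩ nb D y := ⟨nb_symm ha hx, nb_symm ha hy⟩
  have e1 : ψ y = φ y := h.2.2 y ⟨hy, hxy⟩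
  have e2 : χ x = φ x := h'.2.2 x ⟨hx, hyx⟩
  have r1 := restrict htt hD' h.1 hxy
  have r2 := restrict htt hD' h'.1 hyx
  rw [e1] at r1
  rw [e2, Set.inter_comm (nb D y), Set.inter_comm (nb D' (φ y))] at r2
  have hcl := (closed_nb htt x).inter (closed_nb htt y)
  have hinv : ∀ {v}, v ∈ nb D x ∩ nb D y →
      χ (Function.invFunOn χ (nb D x ∩ nb D y) (ψ v)) = ψ v := fun hv =>
    Function.invFunOn_eq (r2.1.surjOn (r1.mem hv))
  rcases L.k2 x hx.1 y hxy a haE _ ((r2.symm hcl).comp r1) (by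
      simp only [Function.comp, h.2.1, ← h'.2.1]; exact r2.1.invOn_invFunOn.1 haE) (fun v hv => by
      simp only [Function.comp, h.2.2 v ⟨hv.1, hv.2.1⟩, ← h'.2.2 v ⟨hv.1, hv.2.2⟩]
      exact r2.1.invOn_invFunOn.1 hv.2) with q | q
  · exact Or.inl fun v hv => by rw [← hinv hv]; exact congrArg χ (q v hv)
  · exact Or.inr fun v hv => by rw [← hinv hv]; exact congrArg χ (q v hv)


theorem exists_agree {x y : G} {ψ χ : G → G'} (hx : x ∈ nb D a) (hy : y ∈ nb D a)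
    (hc : Commute x y) (h : IsExt D D' a a' φ x ψ) (h' : IsExt D D' a a' φ y χ) :
    ∃ χ', IsExt D D' a a' φ y χ' ∧ Agree D x y ψ χ' := by
  by_cases e : y = x
  · subst e; exact ⟨ψ, h, fun _ _ => rfl⟩
  rcases pair_cases L hD' ha hx hy ⟨hy.1, e, hc⟩ h h' with q | q
  · exact ⟨χ, h', q⟩
  · exact ⟨_, h'.twist L ha hy, q⟩

/-- agreement determines the extension -/
theorem agree_unique {x y : G} {ψ χ χ' : G → G'} (hx : x ∈ nb D a) (hy : y ∈ nb D a)
    (hc : Commute x y) (h' : IsExt D D' a a' φ y χ) (h'' : IsExt D D' a a' φ y χ')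
    (h1 : Agree D x y ψ χ) (h2 : Agree D x y ψ χ') : ∀ v ∈ nb D y, χ' v = χ v := by
  rcases ext_cases L ha hy h' h'' with q | q
  · exact q
  by_cases e : y = x
  · subst e
    exact fun v hv => (h2 v ⟨hv, hv⟩).symm.trans (h1 v ⟨hv, hv⟩)
  exact (not_both L ha hx hy ⟨hy.1, e, hc⟩ h' h1 fun v hv => (h2 v hv).trans (q v hv.2)).elim

theorem agree_trans {x y w : G} {ψ χ ω : G → G'} (hx : x ∈ nb D a) (hy : y ∈ nb D a)
    (hw : w ∈ nb D a) (cxy : Commute x y) (cyw : Commute y w) (cxw : Commute x w)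
    (h : IsExt D D' a a' φ x ψ) (h'' : IsExt D D' a a' φ w ω)
    (h1 : Agree D x y ψ χ) (h2 : Agree D y w χ ω) : Agree D x w ψ ω := by
  by_cases e1 : y = x
  · subst e1
    exact fun v hv => (h1 v ⟨hv.1, hv.1⟩).trans (h2 v hv)
  by_cases e2 : w = y
  · subst e2
    exact fun v hv => (h1 v hv).trans (h2 v ⟨hv.2, hv.2⟩)
  by_cases e3 : w = x
  · subst e3
    have := agree_unique L hD' ha hy hx cxy.symm h h'' h1.symm h2
    exact fun v hv => (this v hv.1).symm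
  have hwx : w ∈ nb D x := ⟨hw.1, e3, cxw⟩
  have hyx : y ∈ nb D x := ⟨hy.1, e1, cxy⟩
  rcases pair_cases L hD' ha hx hw hwx h h'' with q | q
  · exact q
  exfalso
  obtain ⟨v, hv, hvw, hn⟩ := L.wit3 x hx.1 y hyx w ⟨hwx, hw.1, e2, cyw⟩ a
    ⟨nb_symm ha hx, nb_symm ha hy⟩ (nb_symm ha hw)
  refine hn ((commute_iff_conj (L.core.tt.sq a ha)).mpr ?_)
  refine h''.1.1.injOn ((TI.conj_self L.core.tt ha hw).mem hvw) hvw ?_
  exact ((q v ⟨hv.1, hvw⟩).symm.trans (h1 v hv)).trans (h2 v ⟨hv.2, hvw⟩)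

/-- coherent systems exist -/
theorem exists_sys (hext : ∀ x ∈ nb D a, ∃ ψ, IsExt D D' a a' φ x ψ) {x0 : G} (hx0 : x0 ∈ nb D a)
    {ψ0 : G → G'} (h0 : IsExt D D' a a' φ x0 ψ0) :
    ∃ ψ, Sys D D' a a' φ ψ ∧ ∀ v ∈ nb D x0, ψ x0 v = ψ0 v := by
  classical
  let P := fun w (χ : G → G') => IsExt D D' a a' φ w χ ∧
    ∀ y ∈ nb D a, Commute x0 y → Commute y w → ∀ ω, IsExt D D' a a' φ y ω →
      Agree D x0 y ψ0 ω → Agree D y w ω χ
  have key : ∀ w ∈ nb D a, ∃ χ, P w χ := by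
    intro w hw
    obtain ⟨χ0, hχ0⟩ := hext w hw
    by_cases hc : Commute x0 w
    · obtain ⟨χ, hχ, ag⟩ := exists_agree L hD' ha hx0 hw hc h0 hχ0
      exact ⟨χ, hχ, fun y hy c1 c2 ω hω q =>
        agree_trans L hD' ha hy hx0 hw c1.symm hc c2 hω hχ q.symm ag⟩
    obtain ⟨y0, hy0⟩ := L.rfar a ha x0 hx0 w hw hc
    obtain ⟨ω0', hω0'⟩ := hext y0 hy0.1.1
    obtain ⟨ω0, hω0, ag0⟩ := exists_agree L hD' ha hx0 hy0.1.1 hy0.1.2.2.2 h0 hω0'
    obtain ⟨χ, hχ, ag⟩ := exists_agree L hD' ha hy0.1.1 hw hy0.2.2.2.symm hω0 hχ0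
    refine ⟨χ, hχ, fun y hy c1 c2 ω hω q => ?_⟩
    have hy' : y ∈ nb D a ∩ nb D x0 ∩ nb D w := by
      refine ⟨⟨hy, hy.1, ?_, c1⟩, hy.1, ?_, c2.symm⟩ <;> rintro rfl
      exacts [hc c2, hc c1]
    suffices ∀ y, Relation.ReflTransGen
        (fun p q => q ∈ nb D a ∩ nb D x0 ∩ nb D w ∧ Commute p q) y0 y →
        y ∈ nb D a ∩ nb D x0 ∩ nb D w ∧
          ∀ ω, IsExt D D' a a' φ y ω → Agree D x0 y ψ0 ω → Agree D y w ω χ from
      (this y (L.rlink a ha x0 hx0 w hw hc y0 hy0 y hy')).2 ω hω q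
    intro y hy
    induction hy with
    | refl =>
      refine ⟨hy0, fun ω hω q v hv => ?_⟩
      rw [agree_unique L hD' ha hx0 hy0.1.1 hy0.1.2.2.2 hω0 hω ag0 q v hv.1]
      exact ag v hv
    | @tail p r _ hpr ih =>
      refine ⟨hpr.1, fun ω hω q => ?_⟩
      obtain ⟨hp, ihp⟩ := ih
      obtain ⟨π', hπ'⟩ := hext p hp.1.1
      obtain ⟨π, hπ, agp⟩ := exists_agree L hD' ha hx0 hp.1.1 hp.1.2.2.2 h0 hπ'
      have a1 : Agree D r p ω π := agree_trans L hD' ha hpr.1.1.1 hx0 hp.1.1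
        hpr.1.1.2.2.2.symm hp.1.2.2.2 hpr.2.symm hω hπ q.symm agp
      exact agree_trans L hD' ha hpr.1.1.1 hp.1.1 hw hpr.2.symm hp.2.2.2.symm hpr.1.2.2.2.symm
        hω hχ a1 (ihp π hπ agp)
  choose! χ hχ using key
  have self : Agree D x0 x0 ψ0 ψ0 := fun _ _ => rfl
  have cons : ∀ x ∈ nb D a, ∀ y ∈ nb D a, Commute x y → Agree D x y (χ x) (χ y) := by
    intro x hx y hy hc
    have near : ∀ {x y}, x ∈ nb D a → y ∈ nb D a → Commute x0 x → Commute x y →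
        Agree D x y (χ x) (χ y) := fun {x y} hx hy c1 c2 =>
      (hχ y hy).2 x hx c1 c2 _ (hχ x hx).1
        ((hχ x hx).2 x0 hx0 (Commute.refl x0) c1 ψ0 h0 self)
    by_cases c1 : Commute x0 x
    · exact near hx hy c1 hc
    by_cases c2 : Commute x0 y
    · exact (near hy hx c2 hc.symm).symm
    rcases L.rmeet a ha x0 hx0 x hx c1 y hy hc with q | ⟨u, hu, cuy⟩
    · exact absurd q c2
    exact agree_trans L hD' ha hx hu.1.1 hy hu.2.2.2 cuy hc (hχ x hx).1 (hχ y hy).1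
      (near hu.1.1 hx hu.1.2.2.2 hu.2.2.2.symm).symm (near hu.1.1 hy hu.1.2.2.2 cuy)
  refine ⟨χ, ⟨fun x hx => (hχ x hx).1, cons⟩, fun v hv => ?_⟩
  exact ((hχ x0 hx0).2 x0 hx0 (Commute.refl x0) (Commute.refl x0) ψ0 h0 self v ⟨hv, hv⟩).symm

theorem sys_unique {ψ χ : G → G → G'} (h : Sys D D' a a' φ ψ) (h' : Sys D D' a a' φ χ) {x : G}
    (hx : x ∈ nb D a) (e : ∀ v ∈ nb D x, χ x v = ψ x v) :
    ∀ w ∈ nb D a, ∀ v ∈ nb D w, χ w v = ψ w v := by
  have step : ∀ {p r}, p ∈ nb D a → r ∈ nb D a → Commute p r →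
      (∀ v ∈ nb D p, χ p v = ψ p v) → ∀ v ∈ nb D r, χ r v = ψ r v := fun {p r} hp hr hc ep =>
    agree_unique L hD' ha hp hr hc (h.1 r hr) (h'.1 r hr) (h.2 p hp r hr hc)
      fun v hv => (ep v hv.1).symm.trans (h'.2 p hp r hr hc v hv)
  intro w hw
  by_cases hc : Commute x w
  · exact step hx hw hc e
  obtain ⟨y, hy⟩ := L.rfar a ha x hx w hw hc
  exact step hy.1.1 hw hy.2.2.2.symm (step hx hy.1.1 hy.1.2.2.2 e)


variable {ψ : G → G → G'} (hφ : TI φ (nb D a) (nb D' a')) (h : Sys D D' a a' φ ψ)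

include hφ h

theorem sys_equiv {q : G} (hq : q ∈ nb D a) {w : G} (hw : w ∈ nb D a) {v : G} (hv : v ∈ nb D w) :
    ψ (q * w * q) (q * v * q) = φ q * ψ w v * φ q := by
  have htt := L.core.tt
  have hq' := hφ.mem hq
  have mem : ∀ {w}, w ∈ nb D a → q * w * q ∈ nb D a := fun hw => (closed_nb htt a q hq).2 _ hw
  have qa : q * a * q = a := (commute_iff_conj (htt.sq q hq.1)).mp hq.2.2.symm
  have tiq : ∀ w, TI (fun x => q * x * q) (nb D w) (nb D (q * w * q)) := fun w => by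
    have := TI.conj_nb htt q w; rwa [htt.inv_eq hq.1] at this
  have hsys : Sys D D' a a' φ fun w v => φ q * ψ (q * w * q) (q * v * q) * φ q := by
    refine ⟨fun w hw => ⟨?_, ?_, fun v hv => ?_⟩, fun x hx y hy hc v hv => ?_⟩
    · have := hD'.conj_nb (φ q) (φ (q * w * q))
      rw [hD'.inv_eq hq'.1, hφ.2 q hq w hw, hD'.conj_conj hq'.1] at this
      have h2 := (h.1 _ (mem hw)).1
      rw [hφ.2 q hq w hw] at h2
      exact this.comp (h2.comp (tiq w))
    · simp only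
      rw [qa, (h.1 _ (mem hw)).2.1]
      exact (commute_iff_conj (hD'.sq _ hq'.1)).mp hq'.2.2.symm
    · simp only
      rw [(h.1 _ (mem hw)).2.2 _ ⟨mem hv.1, (tiq w).mem hv.2⟩, hφ.2 q hq v hv.1, hD'.conj_conj hq'.1]
    · simp only
      rw [h.2 _ (mem hx) _ (mem hy) ?_ _ ⟨(tiq x).mem hv.1, (tiq y).mem hv.2⟩]
      have := hc.map (MulAut.conj q).toMonoidHom
      simpa [htt.inv_eq hq.1] using this
  have e0 : ∀ v ∈ nb D q, φ q * ψ (q * q * q) (q * v * q) * φ q = ψ q v := by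
    intro v hv
    rw [htt.sq q hq.1, one_mul, fix_conj htt hv hq.1]
    exact hD'.fix_conj ((h.1 q hq).1.mem hv) hq'.1
  have := sys_unique L hD' ha h hsys hq e0 w hw v hv
  beta_reduce at this
  rw [← this, hD'.conj_conj hq'.1]


omit hφ in
theorem far_const (hlink : Linked D) {z y r : G} (hz : z ∈ D) (hn : ¬ Commute a z)
    (hy : y ∈ common D a z) (hr : r ∈ common D a z) : ψ y z = ψ r z := by
  suffices ∀ w, Relation.ReflTransGen (fun p q => q ∈ common D a z ∧ Commute p q) y w →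
      w ∈ common D a z ∧ ψ y z = ψ w z from (this r (hlink a ha z hz hn y hy r hr)).2
  intro w hw
  induction hw with
  | refl => exact ⟨hy, rfl⟩
  | @tail p q _ hpq ih =>
    refine ⟨hpq.1, ih.2.trans ?_⟩
    exact h.2 p ih.1.1 q hpq.1.1 hpq.2 z ⟨nb_symm hz ih.1.2, nb_symm hz hpq.1.2⟩


omit hφ h in
theorem exists_glue (hlink : Linked D) (hφ : TI φ (nb D a) (nb D' a')) (ha' : a' ∈ D') (h : Sys D D' a a' φ ψ) :
    ∃ f : G → G', Set.MapsTo f D D' ∧ f a = a' ∧ (∀ v ∈ nb D a, f v = φ v) ∧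
      (∀ w ∈ nb D a, ∀ v ∈ nb D w, f v = ψ w v) ∧
      ∀ q ∈ nb D a, ∀ z ∈ D, f (q * z * q) = f q * f z * f q := by
  classical
  have htt := L.core.tt
  let f : G → G' := fun z =>
    if z = a then a' else if Commute a z then φ z else
      if hh : ∃ y, y ∈ common D a z then ψ hh.choose z else 1
  have fa : f a = a' := if_pos rfl
  have fnb : ∀ v ∈ nb D a, f v = φ v := fun v hv => by
    simp only [f, if_neg hv.2.1, if_pos hv.2.2]
  have ffar : ∀ {z y}, z ∈ D → ¬ Commute a z → y ∈ common D a z → f z = ψ y z := by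
    intro z y hz hn hy
    have hne : z ≠ a := fun e => hn (e ▸ Commute.refl a)
    have hh : ∃ y, y ∈ common D a z := ⟨y, hy⟩
    simp only [f, if_neg hne, if_neg hn, dif_pos hh]
    exact far_const L hD' ha h hlink hz hn hh.choose_spec hy
  have fψ : ∀ w ∈ nb D a, ∀ v ∈ nb D w, f v = ψ w v := by
    intro w hw v hv
    by_cases e : v = a
    · subst e; rw [fa, (h.1 w hw).2.1]
    by_cases c : Commute a v
    · rw [fnb v ⟨hv.1, e, c⟩, (h.1 w hw).2.2 v ⟨⟨hv.1, e, c⟩, hv⟩]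
    · exact ffar hv.1 c ⟨hw, nb_symm hw.1 hv⟩
  refine ⟨f, fun z hz => ?_, fa, fnb, fψ, fun q hq z hz => ?_⟩
  · by_cases e : z = a
    · rw [e, fa]; exact ha'
    by_cases c : Commute a z
    · rw [fnb z ⟨hz, e, c⟩]; exact (hφ.mem ⟨hz, e, c⟩).1
    · obtain ⟨y, hy⟩ := L.far a ha z hz c
      rw [ffar hz c hy]
      exact ((h.1 y hy.1).1.mem (nb_symm hz hy.2)).1
  · have hq' := hφ.mem hq
    have qq := htt.sq q hq.1
    have qa : q * a * q = a := (commute_iff_conj qq).mp hq.2.2.symm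
    by_cases e : z = a
    · rw [e, qa, fa, fnb q hq]
      exact ((commute_iff_conj (hD'.sq _ hq'.1)).mp hq'.2.2.symm).symm
    by_cases c : Commute a z
    · have hv : z ∈ nb D a := ⟨hz, e, c⟩
      rw [fnb _ ((closed_nb htt a q hq).2 z hv), fnb q hq, fnb z hv, hφ.2 q hq z hv]
    · obtain ⟨y, hy⟩ := L.far a ha z hz c
      have hzy := nb_symm hz hy.2
      have hm : q * z * q ∈ nb D (q * y * q) := by
        have := htt.nb_conj q hzy; rwa [htt.inv_eq hq.1] at this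
      rw [fψ _ ((closed_nb htt a q hq).2 y hy.1) _ hm, sys_equiv L hD' ha hφ h hq hy.1 hzy,
        fnb q hq, fψ y hy.1 z hzy]

end

/-- gluing: compatible extensions along every edge give a map of whole classes -/
theorem exists_map (L : Lvl D) (hlink : Linked D) (hD' : Inv D') (Ok : G → G' → (G → G') → Prop)
    (hext : ∀ a ∈ D, ∀ a' ∈ D', ∀ φ, Ok a a' φ → TI φ (nb D a) (nb D' a') ∧ ∀ x ∈ nb D a,
      (∃ ψ, IsExt D D' a a' φ x ψ) ∧ ∀ ψ, IsExt D D' a a' φ x ψ → Ok x (φ x) ψ)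
    {a : G} (ha : a ∈ D) {a' : G'} (ha' : a' ∈ D') {φ : G → G'} (hok : Ok a a' φ) :
    ∃ f : G → G', Set.MapsTo f D D' ∧ Set.InjOn f D ∧ (∀ p ∈ D, ∀ q ∈ D, f (p * q * p) = f p * f q * f p) ∧
      (∀ z ∈ D, TI f (nb D z) (nb D' (f z))) ∧ f a = a' ∧ ∀ v ∈ nb D a, f v = φ v := by
  have htt := L.core.tt
  obtain ⟨hφ, hx⟩ := hext a ha a' ha' φ hok
  obtain ⟨x0, hx0⟩ := L.core.edge a ha
  obtain ⟨ψ00, h00⟩ := (hx x0 hx0).1
  obtain ⟨ψ, hψ, -⟩ := exists_sys L hD' ha (fun x h => (hx x h).1) hx0 h00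
  obtain ⟨f, fmem, fa, fnb, fψ, feq⟩ := exists_glue L hD' ha hlink hφ ha' hψ
  have base : ∀ x ∈ nb D a, ∀ b ∈ nb D x,
      (∀ z ∈ D, f (b * z * b) = f b * f z * f b) ∧ TI f (nb D b) (nb D' (f b)) := by
    intro x hxa
    have hax := nb_symm ha hxa
    have hEx := hψ.1 x hxa
    obtain ⟨hφ', hx'⟩ := hext x hxa.1 (φ x) (hφ.mem hxa).1 (ψ x) ((hx x hxa).2 _ hEx)
    have hbase : IsExt D D' x (φ x) (ψ x) a φ :=
      ⟨hEx.2.1.symm ▸ hφ, rfl, fun v hv => (hEx.2.2 v ⟨hv.2, hv.1⟩).symm⟩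
    obtain ⟨χ, hχ, χa⟩ := exists_sys L hD' hxa.1 (fun w h => (hx' w h).1) hax hbase
    obtain ⟨g, -, gx, gnb, gχ, geq⟩ := exists_glue L hD' hxa.1 hlink hφ' (hφ.mem hxa).1 hχ
    have same : ∀ z ∈ D, g z = f z := by
      intro z hz
      by_cases e1 : z = x
      · rw [e1, gx, fnb x hxa]
      by_cases c1 : Commute x z
      · rw [gnb z ⟨hz, e1, c1⟩, fψ x hxa z ⟨hz, e1, c1⟩]
      by_cases e2 : z = a
      · exact absurd (e2 ▸ hxa.2.2.symm) c1
      by_cases c2 : Commute a z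
      · have hv : z ∈ nb D a := ⟨hz, e2, c2⟩
        rw [fnb z hv, gχ a hax z hv, χa z hv]
      rcases L.meets z hz a ha (fun q => c2 q.symm) x hxa with q | ⟨y, hy, hxy⟩
      · exact absurd q.1.2.2.symm c1
      · have hyx : y ∈ nb D x := nb_symm hy.1.1 hxy
        have hya := hy.2
        have hzy := nb_symm hz hy.1
        have i1 : IsExt D D' x (φ x) (ψ x) y (ψ y) := by
          refine ⟨?_, (hψ.1 y hya).2.2 x ⟨hxa, hxy⟩, fun v hv =>
            (hψ.2 x hxa y hya hyx.2.2 v hv).symm⟩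
          rw [hEx.2.2 y ⟨hya, hyx⟩]
          exact (hψ.1 y hya).1
        have := agree_unique L hD' hxa.1 hax hyx hya.2.2 i1 (hχ.1 y hyx)
          (fun v hv => ((hψ.1 y hya).2.2 v hv).symm)
          (fun v hv => (χa v hv.1).symm.trans (hχ.2 a hax y hyx hya.2.2 v hv)) z hzy
        rw [gχ y hyx z hzy, this, fψ y hya z hzy]
    intro b hb
    refine ⟨fun z hz => ?_, ?_⟩
    · rw [← same _ (htt.conj_self_mem hb.1 hz), geq b hb z hz, same b hb.1, same z hz]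
    · have e : f b = ψ x b := fψ x hxa b hb
      rw [e]
      refine (hχ.1 b hb).1.congr (closed_nb htt b) fun v hv => ?_
      rw [← same v hv.1, gχ b hb v hv]
  have all : ∀ b ∈ D, ∀ z ∈ D, f (b * z * b) = f b * f z * f b := by
    intro b hb
    by_cases e : b = a
    · exact e ▸ (base x0 hx0 a (nb_symm ha hx0)).1
    by_cases c : Commute a b
    · exact feq b ⟨hb, e, c⟩
    · obtain ⟨y, hy⟩ := L.far a ha b hb c
      exact (base y hy.1 b (nb_symm hb hy.2)).1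
  have farimg : ∀ {z}, z ∈ D → ¬ Commute a z → ¬ Commute a' (f z) := by
    intro z hz c q
    obtain ⟨y, hy⟩ := L.far a ha z hz c
    have hzy := nb_symm hz hy.2
    rw [fψ y hy.1 z hzy, ← (hψ.1 y hy.1).2.1] at q
    exact c (((hψ.1 y hy.1).1.comm (closed_nb htt y) (hD'.closed_nb _) (nb_symm ha hy.1) hzy).mp q)
  have inj_near : ∀ {z w}, z ∈ D → w ∈ D → Commute a z → f z = f w → z = w := by
    intro z w hz hw cz e
    have cw : Commute a w := by
      by_contra cw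
      refine farimg hw cw ?_
      rw [← e]
      by_cases e1 : z = a
      · rw [e1, fa]
      · rw [fnb z ⟨hz, e1, cz⟩]; exact (hφ.mem ⟨hz, e1, cz⟩).2.2
    by_cases e1 : z = a <;> by_cases e2 : w = a
    · rw [e1, e2]
    · rw [e1, fa, fnb w ⟨hw, e2, cw⟩] at e
      exact absurd e.symm (hφ.mem ⟨hw, e2, cw⟩).2.1
    · rw [e2, fa, fnb z ⟨hz, e1, cz⟩] at e
      exact absurd e (hφ.mem ⟨hz, e1, cz⟩).2.1
    · rw [fnb z ⟨hz, e1, cz⟩, fnb w ⟨hw, e2, cw⟩] at e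
      exact hφ.1.injOn ⟨hz, e1, cz⟩ ⟨hw, e2, cw⟩ e
  refine ⟨f, fmem, fun z hz w hw e => ?_, all, fun z hz => ?_, fa, fnb⟩
  · by_cases cz : Commute a z
    · exact inj_near hz hw cz e
    by_cases cw : Commute a w
    · exact (inj_near hw hz cw e.symm).symm
    obtain ⟨y, hy⟩ := L.far a ha z hz cz
    have hzy := nb_symm hz hy.2
    have ew : w * y * w = y := by
      refine (inj_near hy.1.1 (htt.conj_self_mem hw hy.1.1) hy.1.2.2 ?_).symm
      rw [all w hw y hy.1.1, ← e, fψ y hy.1 z hzy, fnb y hy.1]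
      exact ((commute_iff_conj (hD'.sq _ ((hψ.1 y hy.1).1.mem hzy).1)).mp
        ((hψ.1 y hy.1).1.mem hzy).2.2.symm).symm
    have hwy : w ∈ nb D y := ⟨hw, fun q => cw (q ▸ hy.1.2.2),
      ((commute_iff_conj (htt.sq w hw)).mpr ew).symm⟩
    rw [fψ y hy.1 z hzy, fψ y hy.1 w hwy] at e
    exact (hψ.1 y hy.1).1.1.injOn hzy hwy e
  · by_cases e1 : z = a
    · rw [e1, fa]
      exact hφ.congr (closed_nb htt a) fnb
    by_cases c : Commute a z
    · have hv : z ∈ nb D a := ⟨hz, e1, c⟩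
      rw [fnb z hv]
      exact (hψ.1 z hv).1.congr (closed_nb htt z) (fψ z hv)
    · obtain ⟨y, hy⟩ := L.far a ha z hz c
      exact (base y hy.1 z (nb_symm hz hy.2)).2

end Cfsg.Agent.H2.FiCentral
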