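import Cfsg.Agent.H61.Glue.Ext23
import Cfsg.Agent.H2.FiCentral.Engine

/-!
A map between the neighbourhood of a member of a class of type M(23) and that of a member of a conjugation
class with transitive neighbour centralisers, lifting to the groups they generate, glues.
-/

set_option autoImplicit false

namespace Cfsg.Agent.H2.FiCentral

open Cfsg.Agent.H93
open Cfsg.Agent.H61.Glue (TI Closed closed_nb IsExt Lifts mult_one mult_list exists_swap23 lvl23 vfr tr3
  wpt_facts tr3_central inner_of_values ext_cases)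

variable {G G' : Type*} [Group G] [Group G'] {D : Set G} {D' : Set G'}

/-- a class of involutions in which the centraliser of a member is transitive on its neighbours -/
structure Loc (D : Set G) : Prop extends Inv D where
  ne_one : ∀ a ∈ D, a ≠ 1
  cls : ∀ a ∈ D, ∀ b ∈ D, IsConj a b
  conj_nbs : ∀ a ∈ D, ∀ v ∈ nb D a, ∀ w ∈ nb D a, ∃ k : G, Commute k a ∧ k * w * k⁻¹ = v

theorem Loc.exists_swap (h : Loc D) {a x : G} (ha : a ∈ D) (hx : x ∈ nb D a) :
    ∃ s : G, s * a * s⁻¹ = x ∧ s * x * s⁻¹ = a := by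
  obtain ⟨g, hg⟩ := isConj_iff.mp (h.cls a ha x hx.1)
  have hgx := h.toInv.nb_conj g hx
  rw [hg] at hgx
  obtain ⟨k, c, e⟩ := h.conj_nbs x hx.1 a (nb_symm ha hx) _ hgx
  refine ⟨k * g, ?_, ?_⟩
  · rw [show k * g * a * (k * g)⁻¹ = k * (g * a * g⁻¹) * k⁻¹ by group, hg]
    exact mul_inv_eq_iff_eq_mul.mpr c.eq
  · rw [show k * g * x * (k * g)⁻¹ = k * (g * x * g⁻¹) * k⁻¹ by group]
    exact e

variable [Finite G] (hG : Geo23 D) (hM : M23Data D) (hD' : Loc D')
  {a : G} {a' : G'} {φ : G → G'}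

include hG hM hD'

/-- a lifting map of neighbourhoods extends to a neighbour, and the extension lifts -/
theorem exists_ext23 (ha : a ∈ D) (ha' : a' ∈ D') (hok : Lifts D D' a a' φ) {x : G}
    (hx : x ∈ nb D a) : ∃ ψ, IsExt D D' a a' φ x ψ ∧ Lifts D D' x (φ x) ψ := by
  obtain ⟨hφ, E, hE, Eφ, Ea⟩ := hok
  have htt := hM.core.tt
  have htt' := hD'.toInv
  have hx' := hφ.mem hx
  have hax := nb_symm ha hx
  obtain ⟨s, sa, sx⟩ := exists_swap23 hG ha hx
  obtain ⟨s', sa', sx'⟩ := hD'.exists_swap ha' hx'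
  set ψ0 : G → G' := fun v => s' * φ (s * v * s⁻¹) * s'⁻¹ with hψ0_def
  set E0 : G → G' := fun v => s' * E (s * v * s⁻¹) * s'⁻¹ with hE0_def
  have hψ0 : TI ψ0 (nb D x) (nb D' (φ x)) := by
    have t1 := TI.conj_nb htt s x
    rw [sx] at t1
    have t2 := htt'.conj_nb s' a'
    rw [sa'] at t2
    exact t2.comp (hφ.comp t1)
  have ψ0a : ψ0 a = a' := by simp only [ψ0]; rw [sa, sx']
  have sub : ∀ g ∈ nbSub D x, s * g * s⁻¹ ∈ nbSub D a := fun g hg => by
    have := hM.coverData.conj s x hx.1 g hg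
    rwa [sx] at this
  have hE0 : ∀ p ∈ nbSub D x, ∀ q ∈ nbSub D x, E0 (p * q) = E0 p * E0 q := fun p hp q hq => by
    simp only [E0]
    rw [show s * (p * q) * s⁻¹ = (s * p * s⁻¹) * (s * q * s⁻¹) by group,
      hE _ (sub p hp) _ (sub q hq)]
    group
  have E0ψ : ∀ v ∈ nb D x, E0 v = ψ0 v := fun v hv => by
    have hv' : s * v * s⁻¹ ∈ nb D a := sx ▸ htt.nb_conj s hv
    simp only [E0, ψ0, Eφ _ hv']
  have E0x : E0 x = φ x := by simp only [E0]; rw [sx, Ea, sa']
  have E0a : E0 a = a' := by rw [E0ψ a hax, ψ0a]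
  -- the comparison on the common neighbours
  set C := nb D a ∩ nb D x with hC_def
  set C' := nb D' a' ∩ nb D' (φ x)
  have hC : Closed C := (closed_nb htt a).inter (closed_nb htt x)
  have hC' : Closed C' := (htt'.closed_nb a').inter (htt'.closed_nb (φ x))
  have rφ : TI φ C C' := restrict htt htt' hφ hx
  have rψ : TI ψ0 C C' := by
    have := restrict htt htt' hψ0 hax
    rwa [ψ0a, Set.inter_comm, Set.inter_comm (nb D' (φ x))] at this
  set δ : G → G := Function.invFunOn ψ0 C ∘ φ with hδ_def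
  have hδ : TI δ C C := (rψ.symm hC).comp rφ
  have ψδ : ∀ v ∈ C, ψ0 (δ v) = φ v := fun v hv =>
    Function.invFunOn_eq (rψ.1.surjOn (rφ.mem hv))
  obtain ⟨F, iF, iFF, hF, sp, -⟩ := hM.pair_space ha hx
  have hsub : Subgroup.closure C ≤ nbSub D a ∧ Subgroup.closure C ≤ nbSub D x :=
    ⟨(Subgroup.closure_le _).mpr fun v hv => Subgroup.subset_closure hv.1,
      (Subgroup.closure_le _).mpr fun v hv => Subgroup.subset_closure hv.2⟩
  have hxa : x ∈ nbSub D a := Subgroup.subset_closure hx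
  have haa := hM.self_mem ha
  have haX : a ∈ nbSub D x := Subgroup.subset_closure hax
  have hxX := hM.self_mem hx.1
  have ne1 : a' ≠ 1 := hD'.ne_one a' ha'
  have ne2 : φ x ≠ 1 := hD'.ne_one _ hx'.1
  have ne3 : a' * φ x ≠ 1 := fun e => hx'.2.1 (by
    have := eq_inv_of_mul_eq_one_left e
    rw [htt'.inv_eq hx'.1] at this
    exact this.symm)
  have four : ∀ g, g ∈ nbSub D a → (∀ v ∈ C, Commute g v) → Commute g x →
      g = 1 ∨ g = a ∨ g = x ∨ g = a * x := fun g hg hc hgx => hM.kernel_pair ha hx hg hgx hc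
  have agree : ∀ g g', (g = 1 ∨ g = a ∨ g = x ∨ g = a * x) →
      (g' = 1 ∨ g' = a ∨ g' = x ∨ g' = a * x) → E0 g' = E g → g' = g := by
    have v1 : E 1 = 1 := mult_one hE
    have v1' : E0 1 = 1 := mult_one hE0
    have v2 : E (a * x) = a' * φ x := by rw [hE a haa x hxa, Ea, Eφ x hx]
    have v2' : E0 (a * x) = a' * φ x := by rw [hE0 a haX x hxX, E0a, E0x]
    have n12 : a' ≠ φ x := fun e => hx'.2.1 e.symm
    have n13 : a' * φ x ≠ a' := fun e => ne2 (mul_eq_left.mp e)
    have n23 : a' * φ x ≠ φ x := fun e => ne1 (mul_eq_right.mp e)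
    intro g g' hg hg' e
    rcases hg with q | q | q | q <;> rcases hg' with q' | q' | q' | q' <;>
      rw [q, q'] at e ⊢ <;>
      simp only [v1, v1', v2, v2', Ea, Eφ x hx, E0a, E0x] at e <;>
      first
      | done
      | exact absurd e ne1 | exact absurd e.symm ne1 | exact absurd e ne2 | exact absurd e.symm ne2
      | exact absurd e ne3 | exact absurd e.symm ne3 | exact absurd e n12 | exact absurd e.symm n12
      | exact absurd e n13 | exact absurd e.symm n13 | exact absurd e n23 | exact absurd e.symm n23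
  have central : ∀ l : List G, (∀ v ∈ l, v ∈ C) → (∀ z ∈ C, Commute l.prod z) →
      l.prod = 1 ∨ l.prod = a ∨ l.prod = x ∨ l.prod = a * x := fun l hl hc =>
    four _ (hsub.1 (Subgroup.list_prod_mem _ fun v hv => Subgroup.subset_closure (hl v hv))) hc
      (Commute.list_prod_left _ _ fun v hv => (hl v hv).2.2.2.symm)
  have hval : ∀ P Q : Fin 3 → Vec F, Plane P Q → (∀ i j, hb (Q i) (Q j) = 0) →
      ∀ o : F, o ^ 2 + o + 1 = 0 → ∀ π : F, π ≠ 0 →
      δ (sp.pt (P 0)) * δ (sp.pt (P 1)) * δ (sp.pt (P 2)) * (δ (sp.pt (vfr P o π 0)) *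
        δ (sp.pt (vfr P o π 1)) * δ (sp.pt (vfr P o π 2))) = tr3 sp P * tr3 sp (vfr P o π) := by
    intro P Q p hQ o ho π hπ
    have hV := fun k : Fin 3 =>
      (wpt_facts hF p (Q := Q) (o ^ (k : ℕ)) (π * (o ^ (k : ℕ)) ^ 2)).1
    set l : List G := [sp.pt (P 0), sp.pt (P 1), sp.pt (P 2), sp.pt (vfr P o π 0),
      sp.pt (vfr P o π 1), sp.pt (vfr P o π 2)] with hl_def
    have hl : ∀ v ∈ l, v ∈ C := by
      intro v hv
      simp only [hl_def, List.mem_cons, List.not_mem_nil, or_false] at hv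
      rcases hv with rfl | rfl | rfl | rfl | rfl | rfl
      exacts [sp.mem (p.pt 0), sp.mem (p.pt 1), sp.mem (p.pt 2), sp.mem (hV 0), sp.mem (hV 1),
        sp.mem (hV 2)]
    have el : l.prod = tr3 sp P * tr3 sp (vfr P o π) := by
      simp only [hl_def, tr3, List.prod_cons, List.prod_nil, mul_one, mul_assoc]
    have hc : ∀ z ∈ C, Commute l.prod z := fun z hz =>
      el ▸ tr3_central hF sp p hQ hC ho hπ hz
    have hl' : ∀ v ∈ l.map δ, v ∈ C := fun v hv => by
      obtain ⟨u, hu, rfl⟩ := List.mem_map.mp hv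
      exact hδ.mem (hl u hu)
    have hc' : ∀ z ∈ C, Commute (l.map δ).prod z := fun z hz => by
      obtain ⟨w, hw, rfl⟩ := hδ.1.surjOn hz
      obtain ⟨-, e⟩ := H61.Glue.TI.map_prod hC hC hδ l hl w hw
      rw [show l.prod * w * l.prod⁻¹ = w from mul_inv_eq_iff_eq_mul.mpr (hc w hw).eq] at e
      exact mul_inv_eq_iff_eq_mul.mp e
    have e1 : E0 (l.map δ).prod = E l.prod := by
      rw [mult_list hE0 _ (fun v hv => Subgroup.subset_closure (hl' v hv).2),
        mult_list hE _ (fun v hv => Subgroup.subset_closure (hl v hv).1), List.map_map]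
      refine congrArg List.prod (List.map_congr_left fun v hv => ?_)
      rw [Function.comp_apply, E0ψ _ (hδ.mem (hl v hv)).2, ψδ v (hl v hv), Eφ v (hl v hv).1]
    have e2 := agree _ _ (central l hl hc) (central _ hl' hc') e1
    rw [el] at e2
    rw [← e2]
    simp only [hl_def, List.map_cons, List.map_nil, List.prod_cons, List.prod_nil, mul_one,
      mul_assoc]
  obtain ⟨k, hk, ek⟩ := inner_of_values hF hC sp hδ (fun l hnd hlen hmem hcom => by
      refine hM.ind l hnd ?_ (by omega) (fun z hz => (hmem z hz).1.1) hcom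
      rintro rfl
      simp at hlen) hval
  have kc : ∀ {w}, (∀ v ∈ C, Commute w v) → Commute k w := fun {w} hw => by
    have hle : Subgroup.closure C ≤ Subgroup.centralizer ({w} : Set G) := by
      rw [Subgroup.closure_le]
      exact fun v hv => Subgroup.mem_centralizer_singleton_iff.mpr (hw v hv).symm.eq
    exact Subgroup.mem_centralizer_singleton_iff.mp (hle hk)
  have ka : Commute k a := kc fun v hv => hv.1.2.2
  have kx : Commute k x := kc fun v hv => hv.2.2.2
  have fixc : ∀ {v : G}, Commute k v → k * v * k⁻¹ = v := fun c => mul_inv_eq_iff_eq_mul.mpr c.eq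
  have hconj := TI.conj_nb htt k x
  rw [fixc kx] at hconj
  refine ⟨fun v => ψ0 (k * v * k⁻¹), ⟨hψ0.comp hconj, ?_, fun v hv => ?_⟩, hψ0.comp hconj,
    fun v => E0 (k * v * k⁻¹), fun p hp q hq => ?_, fun v hv => ?_, ?_⟩
  · simp only [fixc ka, ψ0a]
  · simp only [← ek v hv, ψδ v hv]
  · have hkX := hsub.2 hk
    simp only
    rw [show k * (p * q) * k⁻¹ = (k * p * k⁻¹) * (k * q * k⁻¹) by group,
      hE0 _ (mul_mem (mul_mem hkX hp) (inv_mem hkX)) _ (mul_mem (mul_mem hkX hq) (inv_mem hkX))]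
  · simp only
    rw [E0ψ _ (hconj.mem hv)]
  · simp only [fixc kx, E0x]

/-- lifting maps glue -/
theorem exists_class_map (ha : a ∈ D) (ha' : a' ∈ D') (hok : Lifts D D' a a' φ) :
    ∃ f : G → G', Set.MapsTo f D D' ∧ Set.InjOn f D ∧
      (∀ p ∈ D, ∀ q ∈ D, f (p * q * p) = f p * f q * f p) ∧
      (∀ z ∈ D, TI f (nb D z) (nb D' (f z))) ∧ f a = a' ∧ ∀ v ∈ nb D a, f v = φ v :=
  exists_map (lvl23 hG hM) hG.link hD'.toInv (Lifts D D')
    (fun b hb b' hb' f hf => ⟨hf.1, fun z hz => by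
      obtain ⟨ψ, hψ, hL⟩ := exists_ext23 hG hM hD' hb hb' hf hz
      refine ⟨⟨ψ, hψ⟩, fun χ hχ => ?_⟩
      have htt := hM.core.tt
      have hbz := nb_symm hb hz
      rcases ext_cases (lvl23 hG hM) hb hz hψ hχ with q | q
      · obtain ⟨-, E, hE, Eψ, Ez⟩ := hL
        exact ⟨hχ.1, E, hE, fun v hv => (Eψ v hv).trans (q v hv).symm, Ez⟩
      · obtain ⟨-, E, hE, Eψ, Ez⟩ := hL
        have hbm : b ∈ nbSub D z := Subgroup.subset_closure hbz
        refine ⟨hχ.1, fun v => E (b * v * b), fun p hp r hr => ?_, fun v hv => ?_, ?_⟩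
        · simp only
          rw [show b * (p * r) * b = (b * p * b) * (b * r * b) by
            rw [show b * p * b * (b * r * b) = b * p * (b * b) * r * b by group, htt.sq b hb,
              mul_one]; group, hE _ (mul_mem (mul_mem hbm hp) hbm) _ (mul_mem (mul_mem hbm hr) hbm)]
        · simp only
          rw [Eψ _ ((TI.conj_self htt hb hz).mem hv)]
          exact (q v hv).symm
        · simp only
          rw [Cfsg.Agent.H61.Glue.fix_conj htt hz hb, Ez]⟩)
    ha ha' hok

end Cfsg.Agent.H2.FiCentral
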