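import Cfsg.Agent.H2.FiCentral.Orbit
import Cfsg.Agent.H2.FiCentral.Ext

/-!
An involution whose centraliser is a perfect double cover of a group of type M(22) without roots of the
central involution: its commuting conjugates are the lifts of the members by one section, they generate
the centraliser, and the class has transitive neighbour centralisers.
-/

set_option autoImplicit false

namespace Cfsg.Agent.H2.FiCentral

open Cfsg.Agent.H93

variable {G M : Type*} [Group G] [Finite G] [Group M] [Finite M] {d : G}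
  {ρ : ↥(Subgroup.centralizer ({d} : Set G)) →* M} {d' : ↥(Subgroup.centralizer ({d} : Set G))}
  {E : Set M} {F : Type*} [Field F] [Fintype F] {K : Type*} [Field K] [Fintype K]

/-- the commuting conjugates are the lifts by one section -/
theorem exists_section (D : Dbl ρ d' E F K) (hd' : (d' : G) = d) (hns : ∀ g : G, g * g ≠ d)
    (hnwc : ∃ g : G, g * d * g⁻¹ ∈ Subgroup.centralizer ({d} : Set G) ∧ g * d * g⁻¹ ≠ d) :
    ∃ σ, Sec ρ E σ ∧ ∀ y : G, y ∈ nb (conjugatesOf d) d ↔ ∃ x ∈ E, y = (σ x : G) := by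
  classical
  haveI : Fact (Nat.Prime 2) := ⟨Nat.prime_two⟩
  have hdd : d * d = 1 := by
    have h1 := congrArg Subtype.val D.sq
    rwa [Subgroup.coe_mul, hd'] at h1
  let C := Subgroup.centralizer ({d} : Set G)
  obtain ⟨S⟩ : Nonempty (Sylow 2 ↥C) := inferInstance
  obtain ⟨X, -, hXab, hXsq, hXcard, big, hinto⟩ := D.thompson S
  obtain ⟨A, hA⟩ : ∃ A, A = (X.comap ρ).map C.subtype := ⟨_, rfl⟩
  have hACsq : ∀ x ∈ X.comap ρ, x * x = 1 := fun x hx => D.invol (hXsq _ hx)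
  have hACab : ∀ x ∈ X.comap ρ, ∀ y ∈ X.comap ρ, Commute x y := fun x hx y hy =>
    D.commute (hXsq _ hx) (hXsq _ hy) (hXab _ hx _ hy)
  have habA : ∀ x ∈ A, ∀ y ∈ A, Commute x y := by
    rw [hA]; rintro _ ⟨x, hx, rfl⟩ _ ⟨y, hy, rfl⟩; exact (hACab x hx y hy).map C.subtype
  have hsqA : ∀ x ∈ A, x * x = 1 := by
    rw [hA]; rintro _ ⟨x, hx, rfl⟩; rw [← map_mul, hACsq x hx, map_one]
  have hcardA : Nat.card A = 2048 := by
    rw [hA, ← Nat.card_congr ((X.comap ρ).equivMapOfInjective _ (Subgroup.subtype_injective C)).toEquiv,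
      D.card_comap hXcard]
  have memA : ∀ {x : ↥C}, x ∈ X.comap ρ → (x : G) ∈ A := fun {x} hx => hA.symm ▸ ⟨x, hx, rfl⟩
  have hdAC : d' ∈ X.comap ρ := by show ρ d' ∈ X; rw [D.map_d]; exact one_mem X
  -- the normalizer is transitive
  have trans : ∀ x ∈ A, IsConj d x → ∃ n ∈ Subgroup.normalizer (A : Set G), n * d * n⁻¹ = x := by
    intro x hx hcx
    obtain ⟨g, hg⟩ := isConj_iff.mp hcx
    set B := (A.map (MulAut.conj g⁻¹).toMonoidHom).subgroupOf C with hB
    have hle : A.map (MulAut.conj g⁻¹).toMonoidHom ≤ C := by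
      rintro _ ⟨a, ha, rfl⟩
      refine Subgroup.mem_centralizer_singleton_iff.mpr ?_
      have h1 := ((habA a ha x hx).map (MulAut.conj g⁻¹).toMonoidHom).eq
      have h2 : (MulAut.conj g⁻¹).toMonoidHom x = d := by
        rw [← hg]; show g⁻¹ * (g * d * g⁻¹) * g⁻¹⁻¹ = d; group
      rwa [h2] at h1
    have hBc : Nat.card B = 2048 := by
      rw [hB, Nat.card_congr (Subgroup.subgroupOfEquivOfLe hle).toEquiv,
        ← Nat.card_congr (A.equivMapOfInjective _ (MulAut.conj g⁻¹).injective).toEquiv, hcardA]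
    obtain ⟨k, hk⟩ := big B
      (fun a ha b hb => by
        obtain ⟨a', ha', ea⟩ := ha
        obtain ⟨b', hb', eb⟩ := hb
        refine Subtype.ext (show (a : G) * b = b * a from ?_)
        rw [show (a : G) = (MulAut.conj g⁻¹).toMonoidHom a' from ea.symm,
          show (b : G) = (MulAut.conj g⁻¹).toMonoidHom b' from eb.symm, ← map_mul, ← map_mul,
          (habA a' ha' b' hb').eq])
      (fun a ha => by
        obtain ⟨a', ha', ea⟩ := ha
        refine Subtype.ext (show (a : G) * a = 1 from ?_)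
        rw [show (a : G) = (MulAut.conj g⁻¹).toMonoidHom a' from ea.symm, ← map_mul, hsqA a' ha',
          map_one]) hBc
    have hk2 : A.map (MulAut.conj g⁻¹).toMonoidHom = A.map (MulAut.conj (k : G)).toMonoidHom := by
      have := congrArg (Subgroup.map C.subtype) hk
      rw [hB, Subgroup.subgroupOf_map_subtype, inf_of_le_left hle] at this
      rw [this, hA, Subgroup.map_map, Subgroup.map_map]
      rfl
    have hk3 : A.map (MulAut.conj (g * (k : G))).toMonoidHom = A := by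
      have := congrArg (Subgroup.map (MulAut.conj g).toMonoidHom) hk2
      rw [Subgroup.map_map, Subgroup.map_map] at this
      convert this.symm using 1
      · congr 1; ext a; simp [MulAut.conj_apply, mul_assoc]
      · conv_lhs => rw [← Subgroup.map_id A]
        congr 1; ext a; simp [MulAut.conj_apply, mul_assoc]
    refine ⟨g * k, Subgroup.mem_normalizer_iff_map_conj_eq.mpr hk3, ?_⟩
    rw [show g * (k : G) * d * (g * (k : G))⁻¹ = g * ((k : G) * d * (k : G)⁻¹) * g⁻¹ by group,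
      Subgroup.mem_centralizer_singleton_iff.mp k.2, mul_inv_cancel_right, hg]
  let eA : ↥(X.comap ρ) ≃* ↥A :=
    ((X.comap ρ).equivMapOfInjective _ (Subgroup.subtype_injective C)).trans
      (MulEquiv.subgroupCongr hA.symm)
  have heA : ∀ x, ((eA x : ↥A) : G) = ((x : ↥C) : G) := fun x => rfl
  set Ω : Set ↥(X.comap ρ) := {x | IsConj d ((x : ↥C) : G)} with hΩ
  -- move a commuting conjugate into the preimage
  have move : ∀ y : G, IsConj d y → ∀ hy : y ∈ C, ∃ k : ↥C,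
      ∃ hk : k * ⟨y, hy⟩ * k⁻¹ ∈ X.comap ρ, (⟨_, hk⟩ : ↥(X.comap ρ)) ∈ Ω := by
    intro y hcy hy
    obtain ⟨g, hg⟩ := isConj_iff.mp hcy
    set x : ↥C := ⟨y, hy⟩
    have hx2 : x * x = 1 := Subtype.ext (show y * y = 1 by
      rw [← hg, show g * d * g⁻¹ * (g * d * g⁻¹) = g * (d * d) * g⁻¹ by group, hdd, mul_one,
        mul_inv_cancel])
    obtain ⟨l, hl, hlc, hlp⟩ := D.data.invol_prod D.hK D.ext (x := ρ x)
      (by rw [← map_mul, hx2, map_one])
    obtain ⟨m, hm⟩ := hinto l hl hlc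
    obtain ⟨k, rfl⟩ := D.surj m
    have hk : k * x * k⁻¹ ∈ X.comap ρ := by
      show ρ (k * x * k⁻¹) ∈ X
      rw [map_mul, map_mul, map_inv, ← hlp,
        show ρ k * l.prod * (ρ k)⁻¹ = MulAut.conj (ρ k) l.prod from rfl, map_list_prod]
      refine Subgroup.list_prod_mem _ fun y hy => ?_
      obtain ⟨z, hz, rfl⟩ := List.mem_map.mp hy
      exact hm z hz
    exact ⟨k, hk, hcy.trans (isConj_iff.mpr ⟨(k : G), rfl⟩)⟩
  obtain ⟨σ, hσ, hkind⟩ : ∃ σ, Sec ρ E σ ∧ ∀ x ∈ Ω, x = ⟨d', hdAC⟩ ∨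
      (ρ (x : ↥C) ∈ E ∧ (x : ↥C) = σ (ρ (x : ↥C))) := by
    refine orbit_section D hXab hXsq hXcard hinto
      (A.normalizerMonoidHom.range.map (MulAut.congr eA.symm).toMonoidHom) (dA := ⟨d', hdAC⟩) rfl
      (Ω := Ω) ?_ ?_ ?_ ?_
    · ext x
      constructor
      · intro hc
        obtain ⟨n, hn, en⟩ := trans _ (memA x.2) hc
        refine ⟨⟨_, _, ⟨⟨n, hn⟩, rfl⟩, rfl⟩, ?_⟩
        show eA.symm (A.normalizerMonoidHom ⟨n, hn⟩ (eA ⟨d', hdAC⟩)) = x
        rw [MulEquiv.symm_apply_eq]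
        refine Subtype.ext ?_
        show n * (d' : G) * n⁻¹ = _
        rw [hd']; exact en
      · rintro ⟨⟨_, _, ⟨n, rfl⟩, rfl⟩, rfl⟩
        refine isConj_iff.mpr ⟨n, ?_⟩
        show (n : G) * d * (n : G)⁻¹ =
          ((eA.symm (A.normalizerMonoidHom n (eA ⟨d', hdAC⟩)) : ↥C) : G)
        rw [← heA, MulEquiv.apply_symm_apply]
        exact (congrArg (fun z => (n : G) * z * (n : G)⁻¹) hd').symm
    · intro k x y hx e
      exact IsConj.trans hx (isConj_iff.mpr ⟨(k : G), congrArg Subtype.val e⟩)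
    · rintro x hc ⟨y, hy⟩
      obtain ⟨g, hg⟩ := isConj_iff.mp hc
      refine hns (g⁻¹ * (y : G) * g) ?_
      rw [show g⁻¹ * (y : G) * g * (g⁻¹ * y * g) = g⁻¹ * ((y : G) * y) * g by group,
        show (y : G) * y = g * d * g⁻¹ from (congrArg Subtype.val hy).trans hg.symm]
      group
    · obtain ⟨g, hgC, hne⟩ := hnwc
      obtain ⟨k, hk, hΩ'⟩ := move _ (isConj_iff.mpr ⟨g, rfl⟩) hgC
      refine ⟨_, hΩ', fun e => hne ?_⟩
      have e' : (k : G) * (g * d * g⁻¹) * (k : G)⁻¹ = d :=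
        (congrArg (fun z : ↥(X.comap ρ) => ((z : ↥C) : G)) e).trans hd'
      calc g * d * g⁻¹ = (k : G)⁻¹ * ((k : G) * (g * d * g⁻¹) * (k : G)⁻¹) * k := by group
        _ = (k : G)⁻¹ * d * k := by rw [e']
        _ = d := by rw [mul_assoc, ← Subgroup.mem_centralizer_singleton_iff.mp k.2, inv_mul_cancel_left]
  -- all commuting conjugates
  have fwd : ∀ y : G, IsConj d y → ∀ hy : y ∈ C, y ≠ d → ρ ⟨y, hy⟩ ∈ E ∧
      (⟨y, hy⟩ : ↥C) = σ (ρ ⟨y, hy⟩) := by
    intro y hcy hy hne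
    obtain ⟨k, hk, hΩ'⟩ := move y hcy hy
    rcases hkind _ hΩ' with e | ⟨e1, e2⟩
    · exfalso
      have e' : (k : G) * y * (k : G)⁻¹ = d :=
        (congrArg (fun z : ↥(X.comap ρ) => ((z : ↥C) : G)) e).trans hd'
      refine hne ?_
      calc y = (k : G)⁻¹ * ((k : G) * y * (k : G)⁻¹) * k := by group
        _ = (k : G)⁻¹ * d * k := by rw [e']
        _ = d := by rw [mul_assoc, ← Subgroup.mem_centralizer_singleton_iff.mp k.2, inv_mul_cancel_left]
    · have h1 : ρ ⟨y, hy⟩ ∈ E := by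
        have h' := D.data.core.tt.conj_mem (ρ k⁻¹) _ e1
        have he : ρ k⁻¹ * ρ (k * ⟨y, hy⟩ * k⁻¹) * (ρ k⁻¹)⁻¹ = ρ ⟨y, hy⟩ := by
          simp only [map_mul, map_inv]; group
        exact he ▸ h'
      refine ⟨h1, ?_⟩
      have e3 : k * σ (ρ ⟨y, hy⟩) * k⁻¹ = k * ⟨y, hy⟩ * k⁻¹ := by
        rw [hσ.conj k _ h1]
        refine Eq.trans ?_ e2.symm
        simp only [map_mul, map_inv]
      exact (mul_left_cancel (mul_right_cancel e3)).symm
  refine ⟨σ, hσ, fun y => ⟨fun hy => ?_, ?_⟩⟩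
  · have hy' : y ∈ C := mem_cent hy.2.2
    obtain ⟨h1, h2⟩ := fwd y hy.1 hy' hy.2.1
    exact ⟨_, h1, congrArg Subtype.val h2⟩
  · rintro ⟨x, hx, rfl⟩
    obtain ⟨g, hgC, hgne⟩ := hnwc
    obtain ⟨h1, h2⟩ := fwd _ (isConj_iff.mpr ⟨g, rfl⟩) hgC hgne
    obtain ⟨m, hm⟩ := isConj_iff.mp (D.data.core.cls _ h1 x hx)
    obtain ⟨k, rfl⟩ := D.surj m
    have e : k * σ (ρ ⟨_, hgC⟩) * k⁻¹ = σ x := by rw [hσ.conj k _ h1, hm]
    refine ⟨?_, fun q => ?_, (Subgroup.mem_centralizer_singleton_iff.mp (σ x).2).symm⟩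
    · refine isConj_iff.mpr ⟨(k : G) * g, ?_⟩
      rw [← e, ← h2]
      show (k : G) * g * d * ((k : G) * g)⁻¹ = (k : G) * (g * d * g⁻¹) * (k : G)⁻¹
      group
    · have h3 : σ x = d' := Subtype.ext (q.trans hd'.symm)
      have := congrArg ρ h3
      rw [hσ.img x hx, D.map_d] at this
      exact D.data.core.ne_one x hx this

omit [Finite G] [Finite M] in
/-- the lifts by a section generate -/
theorem closure_section (D : Dbl ρ d' E F K) {σ : M → ↥(Subgroup.centralizer ({d} : Set G))}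
    (hσ : Sec ρ E σ) (hgen : Subgroup.closure E = ⊤) : Subgroup.closure (σ '' E) = ⊤ := by
  set T := Subgroup.closure (σ '' E) with hT
  have himg : T.map ρ = ⊤ := by
    rw [hT, MonoidHom.map_closure, ← hgen]
    congr 1
    ext x
    constructor
    · rintro ⟨_, ⟨z, hz, rfl⟩, rfl⟩; rw [hσ.img z hz]; exact hz
    · exact fun hx => ⟨σ x, ⟨x, hx, rfl⟩, hσ.img x hx⟩
  have hcov : ∀ c, c ∈ T ∨ c * d' ∈ T := by
    intro c
    obtain ⟨t, ht, e⟩ := (himg ▸ Subgroup.mem_top (ρ c) : ρ c ∈ T.map ρ)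
    rcases D.eq_or e.symm with q | q
    · exact Or.inl (q ▸ ht)
    · exact Or.inr (q ▸ ht)
  have hcom : commutator ↥(Subgroup.centralizer ({d} : Set G)) ≤ T := by
    rw [commutator_def, Subgroup.commutator_le]
    intro u _ v _
    have key : ∀ u v : ↥(Subgroup.centralizer ({d} : Set G)),
        (u * d') * v * (u * d')⁻¹ * v⁻¹ = u * v * u⁻¹ * v⁻¹ ∧
        u * (v * d') * u⁻¹ * (v * d')⁻¹ = u * v * u⁻¹ * v⁻¹ := fun u v => by
      constructor
      · calc u * d' * v * (u * d')⁻¹ * v⁻¹ = u * (d' * v * d'⁻¹) * u⁻¹ * v⁻¹ := by group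
          _ = _ := by rw [(D.cen v).eq, mul_inv_cancel_right]
      · calc u * (v * d') * u⁻¹ * (v * d')⁻¹ = u * v * (d' * u⁻¹ * d'⁻¹) * v⁻¹ := by group
          _ = _ := by rw [(D.cen u⁻¹).eq, mul_inv_cancel_right]
    have r := fun {a b : ↥(Subgroup.centralizer ({d} : Set G))} (ha : a ∈ T) (hb : b ∈ T) =>
      mul_mem (mul_mem (mul_mem ha hb) (inv_mem ha)) (inv_mem hb)
    rw [commutatorElement_def]
    rcases hcov u with hu | hu <;> rcases hcov v with hv | hv
    · exact r hu hv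
    · exact (key u v).2 ▸ r hu hv
    · exact (key u v).1 ▸ r hu hv
    · exact (key u v).1 ▸ (key (u * d') v).2 ▸ r hu hv
  exact top_le_iff.mp (D.perf ▸ hcom)

omit [Finite G] [Finite M] in
/-- the class has transitive neighbour centralisers -/
theorem loc_class (D : Dbl ρ d' E F K) (hd' : (d' : G) = d)
    {σ : M → ↥(Subgroup.centralizer ({d} : Set G))} (hσ : Sec ρ E σ)
    (hnb : ∀ y : G, y ∈ nb (conjugatesOf d) d ↔ ∃ x ∈ E, y = (σ x : G)) :
    Loc (conjugatesOf d) := by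
  have hdd : d * d = 1 := by
    have h1 := congrArg Subtype.val D.sq
    rwa [Subgroup.coe_mul, hd'] at h1
  have hinv : Inv (conjugatesOf d) := ⟨fun a ha => by
      obtain ⟨g, rfl⟩ := isConj_iff.mp ha
      rw [show g * d * g⁻¹ * (g * d * g⁻¹) = g * (d * d) * g⁻¹ by group, hdd, mul_one, mul_inv_cancel],
    fun g a ha => IsConj.trans ha (isConj_iff.mpr ⟨g, rfl⟩)⟩
  refine ⟨hinv, fun a ha e => ?_, fun a ha b hb => IsConj.trans (IsConj.symm ha) hb, ?_⟩
  · rw [e] at ha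
    exact D.ne (Subtype.ext (by rw [hd']; exact isConj_one_left.mp ha))
  intro a ha v hv w hw
  obtain ⟨g, rfl⟩ := isConj_iff.mp ha
  have back : ∀ {z}, z ∈ nb (conjugatesOf d) (g * d * g⁻¹) → g⁻¹ * z * g ∈ nb (conjugatesOf d) d := by
    intro z hz
    have := hinv.nb_conj g⁻¹ hz
    rwa [show g⁻¹ * (g * d * g⁻¹) * g⁻¹⁻¹ = d by group, inv_inv] at this
  obtain ⟨x, hx, ex⟩ := (hnb _).mp (back hv)
  obtain ⟨y, hy, ey⟩ := (hnb _).mp (back hw)
  obtain ⟨m, hm⟩ := isConj_iff.mp (D.data.core.cls y hy x hx)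
  obtain ⟨k, rfl⟩ := D.surj m
  have e : (k : G) * (g⁻¹ * w * g) * (k : G)⁻¹ = g⁻¹ * v * g := by
    rw [ey, ex, ← hm, ← hσ.conj k y hy]
    rfl
  refine ⟨g * (k : G) * g⁻¹, ?_, ?_⟩
  · exact (show Commute (k : G) d from Subgroup.mem_centralizer_singleton_iff.mp k.2).map
      (MulAut.conj g).toMonoidHom
  · calc g * (k : G) * g⁻¹ * w * (g * (k : G) * g⁻¹)⁻¹
        = g * ((k : G) * (g⁻¹ * w * g) * (k : G)⁻¹) * g⁻¹ := by group
      _ = v := by rw [e]; group

end Cfsg.Agent.H2.FiCentral
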