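import Cfsg.Agent.H2.FiCentral.Abs
import Cfsg.Agent.H93.Double

/-!
In a perfect double cover of a group of type M(22) without roots of the central involution the lifts, by a
section, of nine members in the positions of the diagram form a cover in the sense of `Cover`.
-/

set_option autoImplicit false

namespace Cfsg.Agent.H2.FiCentral

open Cfsg.Spor Cfsg.Agent.H93
open Cfsg.Agent.H61.Glue (wval_map wval_twist spider_cube relators_lifted mirror_wval mirror_wval')
open Cfsg.Agent.H70.FiTwentyTwo (Config ext9 tab wR wZ wM wval RelHolds gIx adjB)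
open scoped commutatorElement

variable {C M : Type*} [Group C] [Group M] {ρ : C →* M} {d : C} {E : Set M} {F : Type*} [Field F]
  [Fintype F] {K : Type*} [Field K] [Fintype K]

/-- a subgroup covering the quotient is everything -/
theorem top_of_map (D : Dbl ρ d E F K) {T : Subgroup C} (h : T.map ρ = ⊤) : T = ⊤ := by
  have hcov : ∀ c, c ∈ T ∨ c * d ∈ T := by
    intro c
    obtain ⟨t, ht, e⟩ := (h ▸ Subgroup.mem_top (ρ c) : ρ c ∈ T.map ρ)
    rcases D.eq_or e.symm with q | q
    · exact Or.inl (q ▸ ht)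
    · exact Or.inr (q ▸ ht)
  have hcom : commutator C ≤ T := by
    rw [commutator_def, Subgroup.commutator_le]
    intro u _ v _
    have key : ∀ u v : C, (u * d) * v * (u * d)⁻¹ * v⁻¹ = u * v * u⁻¹ * v⁻¹ ∧
        u * (v * d) * u⁻¹ * (v * d)⁻¹ = u * v * u⁻¹ * v⁻¹ := fun u v => by
      constructor
      · calc u * d * v * (u * d)⁻¹ * v⁻¹ = u * (d * v * d⁻¹) * u⁻¹ * v⁻¹ := by group
          _ = _ := by rw [(D.cen v).eq, mul_inv_cancel_right]
      · calc u * (v * d) * u⁻¹ * (v * d)⁻¹ = u * v * (d * u⁻¹ * d⁻¹) * v⁻¹ := by group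
          _ = _ := by rw [(D.cen u⁻¹).eq, mul_inv_cancel_right]
    have r := fun {a b : C} (ha : a ∈ T) (hb : b ∈ T) =>
      mul_mem (mul_mem (mul_mem ha hb) (inv_mem ha)) (inv_mem hb)
    rw [commutatorElement_def]
    rcases hcov u with hu | hu <;> rcases hcov v with hv | hv
    · exact r hu hv
    · exact (key u v).2 ▸ r hu hv
    · exact (key u v).1 ▸ r hu hv
    · exact (key u v).1 ▸ (key (u * d) v).2 ▸ r hu hv
  exact top_le_iff.mp (D.perf ▸ hcom)

variable [Finite M] {L : Type*} [Field L] [Fintype L]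

/-- nine lifts forming a cover -/
theorem exists_cover (D : Dbl ρ d E F K) (h : Geo22 E L) {σ : M → C} (hσ : Sec ρ E σ) :
    ∃ q : Fin 9 → C, Cover d q ∧ ∀ k, ∃ x ∈ E, q k = σ x := by
  obtain ⟨a, ha⟩ := D.data.nonempty
  obtain ⟨p, hp⟩ := H70.FiTwentyTwo.exists_config h ha
  have htt := h.core.tt
  -- the lifts of a configuration satisfy the relations
  have hrels : ∀ {p : Fin 9 → M}, Config E p → RelHolds tab (ext9 fun k => σ (p k)) := by
    intro p hp
    have hr := hp.rels htt
    refine ⟨fun x => ?_, fun x y e => ?_, fun x y e => ?_⟩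
    · simp only [ext9]
      split
      · exact hσ.sq D (hp.mem _)
      · exact one_mul 1
    · simp only [ext9]
      split <;> split
      · next hx hy =>
        have := hr.comm x y e
        simp only [ext9, dif_pos hx, dif_pos hy] at this
        exact hσ.comm D (hp.mem _) (hp.mem _) this
      all_goals first | exact Commute.one_left _ | exact Commute.one_right _
    · have hxy : x < 9 ∧ y < 9 := by
        simp only [adjB, Bool.and_eq_true] at e
        exact ⟨Nat.blt_eq.mp e.1.1, Nat.blt_eq.mp e.1.2⟩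
      have hb := hr.braid x y e
      simp only [ext9, dif_pos hxy.1, dif_pos hxy.2] at hb ⊢
      have c1 := hσ.conj (σ (p ⟨x, hxy.1⟩)) (p ⟨y, hxy.2⟩) (hp.mem _)
      have c2 := hσ.conj (σ (p ⟨y, hxy.2⟩)) (p ⟨x, hxy.1⟩) (hp.mem _)
      rw [inv_eq_of_mul_eq_one_left (hσ.sq D (hp.mem _)), hσ.img _ (hp.mem _),
        htt.inv_eq (hp.mem _)] at c1 c2
      rw [c1, c2, hb]
  have himg : ∀ {p : Fin 9 → M}, Config E p →
      ∀ w, ρ (wval (ext9 fun k => σ (p k)) w) = wval (ext9 p) w := fun {p} hp w => by
    rw [← wval_map]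
    congr 2
    funext k
    exact hσ.img _ (hp.mem k)
  have val : ∀ {p : Fin 9 → M}, Config E p → ∀ w, wval (ext9 p) w = 1 →
      wval (ext9 fun k => σ (p k)) w = 1 ∨ wval (ext9 fun k => σ (p k)) w = d := fun {p} hp w e =>
    D.ker _ ((himg hp w).trans e)
  have cd : ∀ c : C, c = 1 ∨ c = d → ∀ x, Commute c x := by
    rintro c (rfl | rfl) x
    exacts [Commute.one_left x, D.cen x]
  have spider : ∀ {p : Fin 9 → M}, Config E p → wval (ext9 fun k => σ (p k)) wR = 1 := by
    intro p hp
    have v := val hp wR (H70.FiTwentyTwo.spider h hp)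
    rcases v with r | r
    · exact r
    · have := spider_cube (hrels hp) (cd _ (Or.inr r))
      rw [r, pow_succ, pow_two, D.sq, one_mul] at this
      exact absurd this D.ne
  have gen : ∀ {p : Fin 9 → M}, Config E p →
      Subgroup.closure (Set.range fun k => σ (p k)) = ⊤ := by
    intro p hp
    refine top_of_map D ?_
    obtain ⟨φ, hφ⟩ := H70.FiTwentyTwo.config_iso h hp
    rw [MonoidHom.map_closure, ← top_le_iff]
    calc (⊤ : Subgroup M) = (⊤ : Subgroup Fi22).map φ.toMonoidHom :=
          (Subgroup.map_top_of_surjective φ.toMonoidHom φ.surjective).symm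
      _ = (Subgroup.closure (Set.range PresentedGroup.of)).map φ.toMonoidHom := by
          rw [PresentedGroup.closure_range_of]
      _ ≤ _ := by
          rw [MonoidHom.map_closure]
          refine Subgroup.closure_mono ?_
          rintro _ ⟨_, ⟨x, rfl⟩, rfl⟩
          exact ⟨σ (p (gIx x)), ⟨_, rfl⟩, (hσ.img _ (hp.mem _)).trans (hφ x).symm⟩
  have iso : ∀ {p : Fin 9 → M}, Config E p → ∃ π : C →* Fi22,
      (∀ x, π (σ (p (gIx x))) = PresentedGroup.of x) ∧ ∀ g, π g = 1 → g = 1 ∨ g = d := by
    intro p hp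
    obtain ⟨φ, hφ⟩ := H70.FiTwentyTwo.config_iso h hp
    refine ⟨φ.symm.toMonoidHom.comp ρ, fun x => ?_, fun g hg => D.ker g ?_⟩
    · show φ.symm (ρ (σ (p (gIx x)))) = _
      rw [hσ.img _ (hp.mem _), ← hφ, φ.symm_apply_apply]
    · exact φ.symm.injective (hg.trans (map_one _).symm)
  have vZ := val hp wZ (H70.FiTwentyTwo.e_seven h hp)
  have vM := val hp wM (by rw [← mirror_wval]; exact H70.FiTwentyTwo.e_seven h hp.mirror)
  -- the two words differ
  have ne : wval (ext9 fun k => σ (p k)) wZ ≠ wval (ext9 fun k => σ (p k)) wM := by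
    intro eZM
    set q0 : Fin 9 → C := fun k => σ (p k) with hq0
    set c := wval (ext9 q0) wZ
    have hc := cd c vZ
    have hcc : c * c = 1 := by rcases vZ with r | r <;> rw [r] <;> simp [D.sq]
    let q1 : Fin 9 → C := fun k => c * q0 k
    have rels := hrels hp
    rw [← hq0] at rels
    have odd : ∀ n : ℕ, c ^ (2 * n) = 1 := fun n => by rw [pow_mul, pow_two, hcc, one_pow]
    have rels1 : RelHolds tab (ext9 q1) := by
      refine ⟨fun x => ?_, fun x y q => ?_, fun x y q => ?_⟩
      · by_cases hx : x < 9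
        · have := rels.sq x
          simp only [ext9, dif_pos hx] at this ⊢
          simp only [q1]
          rw [show c * q0 ⟨x, hx⟩ * (c * q0 ⟨x, hx⟩) = c * (q0 ⟨x, hx⟩ * c) * q0 ⟨x, hx⟩ by group,
            ← (hc _).eq, show c * (c * q0 ⟨x, hx⟩) * q0 ⟨x, hx⟩ = c * c * (q0 ⟨x, hx⟩ * q0 ⟨x, hx⟩)
              by group, hcc, this, one_mul]
        · simp [ext9, hx]
      · have := rels.comm x y q
        simp only [ext9] at this ⊢
        split <;> split
        · next hx hy =>
          simp only [dif_pos hx, dif_pos hy] at this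
          exact ((hc _).mul_right (hc _)).mul_left ((hc _).symm.mul_right this)
        all_goals first | exact Commute.one_left _ | exact Commute.one_right _
      · have hxy : x < 9 ∧ y < 9 := by
          simp only [adjB, Bool.and_eq_true] at q
          exact ⟨Nat.blt_eq.mp q.1.1, Nat.blt_eq.mp q.1.2⟩
        have e1 := wval_twist (p := q0) hc [x, y, x] (by simp [hxy.1, hxy.2])
        have e2 := wval_twist (p := q0) hc [y, x, y] (by simp [hxy.1, hxy.2])
        simp only [wval, List.map_cons, List.map_nil, List.prod_cons, List.prod_nil, mul_one,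
          List.length_cons, List.length_nil, ← mul_assoc] at e1 e2
        rw [show ext9 q1 = ext9 (fun k => c * q0 k) from rfl, e1, e2, mul_assoc (c ^ _),
          mul_assoc (c ^ _), mul_assoc (c ^ _), mul_assoc (c ^ _), rels.braid x y q]
    have tw := fun (w : List ℕ) (hw : ∀ x ∈ w, x < 9) => wval_twist (p := q0) hc w hw
    have l63 : c ^ wZ.length = c := by
      rw [show wZ.length = 2 * 31 + 1 by decide, pow_succ, odd, one_mul]
    have t1 : wval (ext9 q1) wR = 1 := by
      rw [tw wR (by decide +kernel), spider hp, mul_one, show wR.length = 2 * 45 by decide, odd]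
    have t2 : wval (ext9 q1) wZ = 1 := by rw [tw wZ (by decide +kernel), l63, hcc]
    have t3 : wval (ext9 q1) wM = 1 := by
      rw [tw wM (by decide +kernel), ← eZM, show wM.length = wZ.length by decide, l63, hcc]
    obtain ⟨φ, hφ⟩ := H70.FiTwentyTwo.config_iso h hp
    let f : Fi22 →* C := PresentedGroup.toGroup (relators_lifted rels1 t1 t2 t3)
    have hcomp : ρ.comp f = φ.toMonoidHom := PresentedGroup.ext fun x => by
      show ρ (f _) = φ _
      rw [show f (PresentedGroup.of x) = c * q0 (gIx x) from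
        PresentedGroup.toGroup.of (relators_lifted rels1 t1 t2 t3), map_mul,
        hσ.img _ (hp.mem _), hφ]
      rcases vZ with r | r <;> rw [r] <;> simp [D.map_d]
    have ftop : f.range = ⊤ := top_of_map D (top_le_iff.mp fun m _ =>
      ⟨f (φ.symm m), ⟨_, rfl⟩, (DFunLike.congr_fun hcomp _).trans (φ.apply_symm_apply m)⟩)
    obtain ⟨y, hy⟩ : d ∈ f.range := ftop ▸ Subgroup.mem_top d
    have h1 : φ y = 1 := by
      rw [← show ρ (f y) = φ y from DFunLike.congr_fun hcomp y, hy, D.map_d]
    exact D.ne (by rw [← hy, show y = 1 from φ.injective (h1.trans (map_one φ).symm), map_one])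
  -- choose the side
  rcases vZ with rz | rz
  · exact ⟨_, ⟨D.cen, D.sq, D.ne, hrels hp, spider hp, rz, vM.resolve_left fun r => ne (rz.trans r.symm),
      gen hp, iso hp⟩, fun k => ⟨p k, hp.mem k, rfl⟩⟩
  · have hm := vM.resolve_right fun r => ne (rz.trans r.symm)
    refine ⟨_, ⟨D.cen, D.sq, D.ne, hrels hp.mirror, spider hp.mirror, ?_, ?_, gen hp.mirror,
      iso hp.mirror⟩, fun k => ⟨p (H70.FiTwentyTwo.mirror k), hp.mem _, rfl⟩⟩
    · show wval (ext9 ((fun k => σ (p k)) ∘ H70.FiTwentyTwo.mirror)) wZ = 1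
      rw [mirror_wval]; exact hm
    · show wval (ext9 ((fun k => σ (p k)) ∘ H70.FiTwentyTwo.mirror)) wM = d
      rw [mirror_wval']; exact rz

end Cfsg.Agent.H2.FiCentral
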