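import Cfsg.Agent.H93.Invol24
import Cfsg.Agent.H93.Pair23
import Cfsg.Agent.H93.DoubleClasses
import Cfsg.Agent.H93.U6Ext
import Cfsg.Agent.H2.FiCentral.Engine

/-!
A component of the commuting graph of a conjugacy class of involutions which generates a group of type M(23)
containing the centralisers of its members is the whole class.
-/

set_option autoImplicit false

namespace Cfsg.Agent.H2.FiCentral

open Cfsg.Agent.H93
open scoped commutatorElement

variable {G : Type*} [Group G] [Finite G] {D Ω : Set G} {I : Subgroup G}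

/-- a component generating a subgroup of type M(23) with the centralisers of its members -/
structure Comp (D Ω : Set G) (I : Subgroup G) : Prop where
  inv : Inv D
  ne_one : ∀ a ∈ D, a ≠ 1
  cls : ∀ a ∈ D, ∀ b ∈ D, IsConj a b
  sub : Ω ⊆ D
  le : Ω ⊆ (I : Set G)
  closed : ∀ ω ∈ Ω, ∀ y ∈ D, Commute ω y → y ∈ Ω
  cent : ∀ ω ∈ Ω, Subgroup.centralizer ({ω} : Set G) ≤ I
  data : M23Data {x : ↥I | (x : G) ∈ Ω}
  geo : Geo23 {x : ↥I | (x : G) ∈ Ω}

omit [Finite G] in
/-- two involutions: a product of odd order makes them conjugate by one of its powers -/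
theorem odd_conj {x y : G} (hx : x * x = 1) (hy : y * y = 1) (ho : Odd (orderOf (x * y))) :
    ∃ j : ℕ, (x * y) ^ j * x * ((x * y) ^ j)⁻¹ = y := by
  obtain ⟨n, hn⟩ := ho
  have hinv : x * (x * y) * x⁻¹ = (x * y)⁻¹ := by
    rw [mul_inv_rev, inv_eq_of_mul_eq_one_left hx, inv_eq_of_mul_eq_one_left hy, ← mul_assoc, hx,
      one_mul]
  have hflip : ∀ k : ℕ, x * ((x * y) ^ k)⁻¹ = (x * y) ^ k * x := fun k => by
    have h1 : x * (x * y) ^ k * x⁻¹ = ((x * y) ^ k)⁻¹ := by rw [← conj_pow, hinv, inv_pow]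
    rw [← h1, inv_eq_of_mul_eq_one_left hx, ← mul_assoc, ← mul_assoc, hx, one_mul]
  refine ⟨n, ?_⟩
  rw [mul_assoc, hflip, ← mul_assoc, ← pow_add]
  have h2 : (x * y) ^ (n + n) = (x * y)⁻¹ := eq_inv_of_mul_eq_one_left (by
    rw [← pow_succ, show n + n + 1 = orderOf (x * y) by omega, pow_orderOf_eq_one])
  rw [h2, mul_inv_rev, inv_eq_of_mul_eq_one_left hx, inv_eq_of_mul_eq_one_left hy, mul_assoc, hx,
    mul_one]

omit [Finite G] in
/-- powers of a product commute with whatever commutes with the factors -/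
theorem commute_prod_pow {x y g : G} (hx : Commute g x) (hy : Commute g y) (j : ℕ) :
    Commute g ((x * y) ^ j) := (hx.mul_right hy).pow_right j

namespace Comp

variable (H : Comp D Ω I)

include H

omit [Finite G] in
theorem toI {ω : G} (h : ω ∈ Ω) : (⟨ω, H.le h⟩ : ↥I) ∈ {x : ↥I | (x : G) ∈ Ω} := h

/-- an element of the class in the subgroup belongs to the component -/
theorem mem_of_mem {y : G} (hy : y ∈ D) (hI : y ∈ I) : y ∈ Ω := by
  have h1 : (⟨y, hI⟩ : ↥I) * ⟨y, hI⟩ = 1 := Subtype.ext (H.inv.sq y hy)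
  obtain ⟨l, lm, lc, lp⟩ := H.data.invol_all H.geo h1
  match l, lm, lc, lp with
  | [], _, _, lp => exact absurd (congrArg Subtype.val lp.symm) (H.ne_one y hy)
  | t :: r, lm, lc, lp =>
    have hc : Commute t (⟨y, hI⟩ : ↥I) := by
      rw [← lp]
      exact Commute.list_prod_right _ _ fun s hs => lc t List.mem_cons_self s hs
    exact H.closed t.1 (lm t List.mem_cons_self) y hy (hc.map I.subtype)

/-- elements moving a member into the component lie in the subgroup -/
theorem mem_of_conj {g ω : G} (hω : ω ∈ Ω) (h : g * ω * g⁻¹ ∈ Ω) : g ∈ I := by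
  obtain ⟨k, hk⟩ := isConj_iff.mp (H.data.core.cls _ (H.toI hω) _ (H.toI h))
  have hk' : (k : G) * ω * (k : G)⁻¹ = g * ω * g⁻¹ := congrArg Subtype.val hk
  have hc : (k : G)⁻¹ * g ∈ Subgroup.centralizer ({ω} : Set G) := by
    rw [Subgroup.mem_centralizer_singleton_iff]
    calc (k : G)⁻¹ * g * ω = (k : G)⁻¹ * (g * ω * g⁻¹) * g := by group
      _ = (k : G)⁻¹ * ((k : G) * ω * (k : G)⁻¹) * g := by rw [hk']
      _ = ω * ((k : G)⁻¹ * g) := by group
  simpa using mul_mem k.2 (H.cent ω hω hc)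

/-- members in one 2-subgroup commute -/
theorem comm_twoGroup {P : Subgroup G} (hP : IsPGroup 2 P) {x y : G} (hx : x ∈ D) (hy : y ∈ D)
    (hxP : x ∈ P) (hyP : y ∈ P) : Commute x y := by
  haveI : Fact (Nat.Prime 2) := ⟨Nat.prime_two⟩
  obtain ⟨ω, hω⟩ := H.data.nonempty
  have hω2 : IsPGroup 2 ↥(Subgroup.zpowers ω) := by
    refine IsPGroup.of_card (n := 1) ?_
    rw [Nat.card_zpowers, pow_one]
    exact orderOf_eq_prime (by rw [pow_two]; exact H.data.core.tt.sq ω hω) (H.data.core.ne_one ω hω)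
  obtain ⟨T, hT⟩ := hω2.exists_le_sylow
  have hωT : ω ∈ (T : Subgroup ↥I) := hT (Subgroup.mem_zpowers ω)
  have hT2 : IsPGroup 2 ↥((T : Subgroup ↥I).map I.subtype) := T.2.map _
  obtain ⟨S, hS⟩ := hT2.exists_le_sylow
  -- the Sylow subgroup of the subgroup is one of the group
  have hST : (S : Subgroup G) ≤ (T : Subgroup ↥I).map I.subtype := by
    set T0 := ((T : Subgroup ↥I).map I.subtype).subgroupOf (S : Subgroup G) with hT0
    by_contra hne
    have hlt : T0 < ⊤ := lt_top_iff_ne_top.mpr fun e => hne (Subgroup.subgroupOf_eq_top.mp e)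
    haveI : Group.IsNilpotent ↥(S : Subgroup G) := S.2.isNilpotent
    obtain ⟨n, hn, hnT⟩ := SetLike.exists_of_lt (normalizerCondition_of_isNilpotent T0 hlt)
    have hnorm : ∀ t ∈ (T : Subgroup ↥I), ∃ t' ∈ (T : Subgroup ↥I), (t' : G) = n * t * (n : G)⁻¹ := by
      intro t ht
      have h1 : (⟨t, hS ⟨t, ht, rfl⟩⟩ : ↥(S : Subgroup G)) ∈ T0 :=
        Subgroup.mem_subgroupOf.mpr ⟨t, ht, rfl⟩
      obtain ⟨t', ht', e⟩ := Subgroup.mem_subgroupOf.mp ((Subgroup.mem_normalizer_iff.mp hn _).mp h1)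
      exact ⟨t', ht', e⟩
    have hnI : (n : G) ∈ I := by
      obtain ⟨t', -, e⟩ := hnorm ω hωT
      refine H.mem_of_conj (ω := ω) hω (H.mem_of_mem (H.inv.conj_mem _ _ (H.sub hω)) ?_)
      rw [← e]
      exact t'.2
    have hle : (T : Subgroup ↥I) ≤ (S : Subgroup G).comap I.subtype :=
      fun t ht => hS ⟨t, ht, rfl⟩
    have h2 : IsPGroup 2 ↥((S : Subgroup G).comap I.subtype) :=
      S.2.comap_of_injective I.subtype (Subgroup.subtype_injective I)
    have heq := T.3 h2 hle
    refine hnT (Subgroup.mem_subgroupOf.mpr ⟨⟨n, hnI⟩, ?_, rfl⟩)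
    rw [← heq]
    exact n.2
  obtain ⟨R, hR⟩ := hP.exists_le_sylow
  obtain ⟨g, rfl⟩ := MulAction.exists_smul_eq G S R
  have key : ∀ {z}, z ∈ D → z ∈ P → ∃ t ∈ (T : Subgroup ↥I), (t : G) ∈ Ω ∧ (t : G) = g⁻¹ * z * g := by
    intro z hz hzP
    obtain ⟨s, hs, e⟩ := hR hzP
    obtain ⟨t, ht, rfl⟩ := hST hs
    have e' : g * (t : G) * g⁻¹ = z := e
    have ht' : (t : G) = g⁻¹ * z * g := by rw [← e']; group
    refine ⟨t, ht, H.mem_of_mem ?_ t.2, ht'⟩
    rw [ht']
    simpa using H.inv.conj_mem g⁻¹ z hz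
  obtain ⟨t1, m1, o1, e1⟩ := key hx hxP
  obtain ⟨t2, m2, o2, e2⟩ := key hy hyP
  have hc := (H.data.core.tt.comm_twoGroup T.2 o1 o2 m1 m2).map I.subtype
  have : Commute (g * (g⁻¹ * x * g) * g⁻¹) (g * (g⁻¹ * y * g) * g⁻¹) := by
    rw [← e1, ← e2]
    exact hc.map (MulAut.conj g).toMonoidHom
  simpa [mul_assoc] using this

/-- members: their product has odd order and they are conjugate by a power of it, or one is conjugate,
by a power of it, to the product of the other with a central involution -/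
theorem pair_cases {x y : G} (hx : x ∈ D) (hy : y ∈ D) :
    (∃ j : ℕ, (x * y) ^ j * x * ((x * y) ^ j)⁻¹ = y) ∨
      ∃ (k j : ℕ), (x * y) ^ k ≠ 1 ∧ Commute x ((x * y) ^ k) ∧
        (x * y) ^ j * y * ((x * y) ^ j)⁻¹ = x * (x * y) ^ k := by
  haveI : Fact (Nat.Prime 2) := ⟨Nat.prime_two⟩
  rcases Nat.even_or_odd (orderOf (x * y)) with he | ho
  swap
  · exact Or.inl (odd_conj (H.inv.sq x hx) (H.inv.sq y hy) ho)
  right
  set w := x * y with hw
  have hxx := H.inv.sq x hx
  have hyy := H.inv.sq y hy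
  have hpos : 0 < orderOf w := orderOf_pos w
  have hinv : x * w * x⁻¹ = w⁻¹ := by
    rw [hw, mul_inv_rev, inv_eq_of_mul_eq_one_left hxx, inv_eq_of_mul_eq_one_left hyy, ← mul_assoc,
      hxx, one_mul]
  have hinvp : ∀ k : ℕ, x * w ^ k * x⁻¹ = (w ^ k)⁻¹ := fun k => by rw [← conj_pow, hinv, inv_pow]
  have hxw : x * w = y := by rw [hw, ← mul_assoc, hxx, one_mul]
  -- conjugates of the second member
  have conj : ∀ j : ℕ, (w ^ j)⁻¹ * y * w ^ j = x * w ^ (2 * j + 1) := fun j => by
    calc (w ^ j)⁻¹ * y * w ^ j = x * w ^ j * x⁻¹ * (x * w) * w ^ j := by rw [hinvp, hxw]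
      _ = x * (w ^ j * w * w ^ j) := by group
      _ = x * w ^ (2 * j + 1) := by rw [← pow_succ, ← pow_add]; congr 2; omega
  have back : ∀ j : ℕ, ∃ i : ℕ, w ^ i * y * (w ^ i)⁻¹ = x * w ^ (2 * j + 1) := fun j => by
    refine ⟨j * (orderOf w - 1), ?_⟩
    have e : w ^ (j * (orderOf w - 1)) = (w ^ j)⁻¹ := eq_inv_of_mul_eq_one_left (by
      rw [← pow_add, show j * (orderOf w - 1) + j = orderOf w * j by
        rw [Nat.mul_comm j, ← Nat.succ_mul]; congr 1; omega, pow_mul, pow_orderOf_eq_one, one_pow])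
    rw [e, inv_inv]
    exact conj j
  obtain ⟨s, m, hmod, hsm⟩ := Nat.exists_eq_two_pow_mul_odd hpos.ne'
  obtain ⟨n, rfl⟩ := hmod
  obtain ⟨i, hi⟩ := back n
  have hzD : x * w ^ (2 * n + 1) ∈ D := hi ▸ H.inv.conj_mem _ y hy
  set v := w ^ (2 * n + 1) with hv
  have hvo : orderOf v = 2 ^ s := by
    rw [hv, orderOf_pow' _ (by omega), Nat.gcd_eq_right (hsm ▸ Dvd.intro_left _ rfl), hsm,
      Nat.mul_div_cancel _ (by omega)]
  -- the two members generate a 2-group
  have hv2 : IsPGroup 2 ↥(Subgroup.zpowers v) := IsPGroup.of_card (n := s) (by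
    rw [Nat.card_zpowers, hvo])
  have hx2 : IsPGroup 2 ↥(Subgroup.zpowers x) := IsPGroup.of_card (n := 1) (by
    rw [Nat.card_zpowers, pow_one]
    exact orderOf_eq_prime (by rw [pow_two]; exact hxx) (H.ne_one x hx))
  have hnorm : Subgroup.zpowers x ≤ Subgroup.normalizer (Subgroup.zpowers v : Set G) := by
    rw [Subgroup.zpowers_le]
    refine Subgroup.mem_normalizer_iff_map_conj_eq.mpr ?_
    rw [MonoidHom.map_zpowers]
    show Subgroup.zpowers (x * v * x⁻¹) = _
    rw [hv, hinvp, Subgroup.zpowers_inv]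
  have h2 := hx2.to_sup_of_normal_right' hv2 hnorm
  have hc : Commute x (x * v) := H.comm_twoGroup h2 hx hzD
    (le_sup_left (a := Subgroup.zpowers x) (Subgroup.mem_zpowers x))
    (mul_mem (le_sup_left (a := Subgroup.zpowers x) (Subgroup.mem_zpowers x))
      (le_sup_right (a := Subgroup.zpowers x) (Subgroup.mem_zpowers v)))
  have hxv : Commute x v := by
    have := (Commute.refl x).mul_right hc
    rwa [← mul_assoc, hxx, one_mul] at this
  refine ⟨2 * n + 1, i, fun e => ?_, hxv, hi⟩
  have h1 : orderOf v = 1 := orderOf_eq_one_iff.mpr e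
  rw [hvo] at h1
  rw [hsm, h1, one_mul] at he
  exact absurd he (Nat.not_even_iff_odd.mpr ⟨n, rfl⟩)

/-- a member in the component centralising `u` and a member centralising `u`: either they are conjugate
in the centraliser, or the second is conjugate there to a neighbour of the first -/
theorem local_cases {u ω e : G} (hω : ω ∈ Ω) (he : e ∈ D) (hωu : Commute u ω) (heu : Commute u e) :
    (∃ g : G, Commute u g ∧ g * ω * g⁻¹ = e) ∨
      ∃ y ∈ nb D ω, y ∈ Ω ∧ Commute u y ∧ Commute e (ω * y) ∧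
        ∃ g : G, Commute u g ∧ g * e * g⁻¹ = y := by
  rcases H.pair_cases (H.sub hω) he with ⟨j, hj⟩ | ⟨k, j, hne, hc, hj⟩
  · exact Or.inl ⟨_, commute_prod_pow hωu heu j, hj⟩
  · right
    have hyD : ω * (ω * e) ^ k ∈ D := hj ▸ H.inv.conj_mem _ e he
    have hcy : Commute ω (ω * (ω * e) ^ k) := (Commute.refl ω).mul_right hc
    refine ⟨_, ⟨hyD, fun q => hne (mul_eq_left.mp q), hcy⟩, H.closed ω hω _ hyD hcy,
      hωu.mul_right (commute_prod_pow hωu heu k), ?_, _, commute_prod_pow hωu heu j, hj⟩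
    rw [← mul_assoc, H.inv.sq ω (H.sub hω), one_mul]
    have h := (hc.symm.mul_right (Commute.refl ((ω * e) ^ k))).symm
    have he' : e = ω * (ω * e) := by rw [← mul_assoc, H.inv.sq ω (H.sub hω), one_mul]
    exact (congrArg (fun z => Commute z ((ω * e) ^ k)) he').mpr
      (hc.mul_left ((Commute.refl (ω * e)).pow_right k))

/-- a member with product with a commuting pair in the class is one of the pair -/
theorem pair_only {a b y : G} (ha : a ∈ Ω) (hb : b ∈ nb D a) (hy : y ∈ Ω) (hyu : Commute y (a * b))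
    (hyD : y * (a * b) ∈ D) : y = a ∨ y = b := by
  have hbΩ := H.closed a ha b hb.1 hb.2.2
  have hz : y * (a * b) ∈ Ω := H.mem_of_mem hyD (mul_mem (H.le hy) (mul_mem (H.le ha) (H.le hbΩ)))
  have hyz : Commute y (y * (a * b)) := (Commute.refl y).mul_right hyu
  have hne : y ≠ y * (a * b) := fun q => by
    have h1 : a * b = 1 := mul_eq_left.mp q.symm
    exact hb.2.1 (by rw [← H.inv.inv_eq (H.sub ha)]; exact eq_inv_of_mul_eq_one_right h1)
  let A : ↥I := ⟨a, H.le ha⟩
  let B : ↥I := ⟨b, H.le hbΩ⟩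
  let Y : ↥I := ⟨y, H.le hy⟩
  let Z : ↥I := ⟨y * (a * b), H.le hz⟩
  have key := unique_factor H.data.core.tt H.data.ind 2 (by norm_num) (A * B) [Y, Z] [A, B]
    ⟨by simp [Y, Z, hne], rfl, by simp [Y, Z, hy, hz], by
      have c : Commute Y Z := Subtype.ext hyz.eq
      simp [c, c.symm], Subtype.ext (by
      simp [Y, Z, A, B, ← mul_assoc, H.inv.sq y (H.sub hy)])⟩
    ⟨by simp [A, B, hb.2.1.symm], rfl, by simp [A, B, ha, hbΩ], by
      have c : Commute A B := Subtype.ext hb.2.2.eq
      simp [c, c.symm], by simp⟩ Y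
  simpa [A, B, Y, Subtype.ext_iff] using key.mp (by simp)

/-- a member of the class sharing a pair with a commuting pair is in the component -/
theorem pair_member {a b e : G} (ha : a ∈ Ω) (hb : b ∈ nb D a) (he : e ∈ D)
    (heu : Commute e (a * b)) (heD : e * (a * b) ∈ D) : e ∈ Ω := by
  have hbΩ := H.closed a ha b hb.1 hb.2.2
  set u := a * b with hu
  have htt := H.data.core.tt
  let A : ↥I := ⟨a, H.le ha⟩
  let B : ↥I := ⟨b, H.le hbΩ⟩
  have hB : B ∈ nb {x : ↥I | (x : G) ∈ Ω} A :=
    ⟨hbΩ, fun q => hb.2.1 (congrArg Subtype.val q), Subtype.ext hb.2.2.eq⟩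
  -- common neighbours
  have hm : ∀ m ∈ nb {x : ↥I | (x : G) ∈ Ω} A ∩ nb {x : ↥I | (x : G) ∈ Ω} B,
      Commute e ((m : G) * a) := by
    intro m hm
    have cma : Commute a (m : G) := congrArg Subtype.val hm.1.2.2
    have cmb : Commute b (m : G) := congrArg Subtype.val hm.2.2.2
    have cu : Commute u (m : G) := cma.mul_left cmb
    have hcase : ∀ {z g : G}, z ∈ Ω → Commute u z → Commute u g → g * z * g⁻¹ = e ∨ g * e * g⁻¹ = z →
        z = a ∨ z = b := by
      intro z g hz hzu hgu hge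
      refine H.pair_only ha hb hz hzu.symm ?_
      rcases hge with hge | hge
      · have := H.inv.conj_mem g⁻¹ _ heD
        rwa [show g⁻¹ * (e * (a * b)) * g⁻¹⁻¹ = (g⁻¹ * e * g) * (g⁻¹ * u * g) by rw [← hu]; group,
          show g⁻¹ * e * g = z by rw [← hge]; group,
          show g⁻¹ * u * g = u by rw [mul_assoc, hgu.eq, inv_mul_cancel_left]] at this
      · have := H.inv.conj_mem g _ heD
        rwa [show g * (e * (a * b)) * g⁻¹ = (g * e * g⁻¹) * (g * u * g⁻¹) by rw [← hu]; group, hge,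
          show g * u * g⁻¹ = u from mul_inv_eq_iff_eq_mul.mpr hgu.symm.eq] at this
    rcases H.local_cases (u := u) hm.1.1 he cu heu.symm with ⟨g, cg, eg⟩ | ⟨y, -, hy, cy, cey, g, cg, eg⟩
    · exfalso
      rcases hcase hm.1.1 cu cg (Or.inl eg) with q | q
      exacts [hm.1.2.1 (Subtype.ext q), hm.2.2.1 (Subtype.ext q)]
    · rcases hcase hy cy cg (Or.inr eg) with q | q
      · rwa [q] at cey
      · rw [q] at cey
        have := cey.mul_right heu
        rwa [show (m : G) * b * (a * b) = (m : G) * a by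
          rw [show (m : G) * b * (a * b) = (m : G) * (b * a) * b by group, ← hb.2.2.eq]
          rw [mul_assoc, mul_assoc, H.inv.sq b hb.1, mul_one]] at this
  -- the joint centraliser is perfect
  have hcp := H.data.cent_pair (a := A) (b := B) ha hB
  set S := nb {x : ↥I | (x : G) ∈ Ω} A ∩ nb {x : ↥I | (x : G) ∈ Ω} B
  have cA : ∀ k ∈ Subgroup.closure S, Commute k A := fun k hk =>
    (Subgroup.mem_centralizer_iff.mp (hcp ▸ hk) A (by simp)).symm
  have hAA : A * A = 1 := htt.sq A ha
  have two : ∀ k ∈ Subgroup.closure S, Commute e (k : G) ∨ Commute e ((k * A : ↥I) : G) := by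
    intro k hk
    induction hk using Subgroup.closure_induction with
    | mem m hm' => exact Or.inr (hm m hm')
    | one => exact Or.inl (Commute.one_right e)
    | mul k l hk hl ihk ihl =>
      have cl : Commute (l : G) a := congrArg Subtype.val (cA l hl)
      have e1 : ((k * A : ↥I) : G) * ((l * A : ↥I) : G) = (k : G) * l := by
        show (k : G) * a * ((l : G) * a) = k * l
        rw [show (k : G) * a * ((l : G) * a) = k * (a * l) * a by group, ← cl.eq,
          mul_assoc, mul_assoc, H.inv.sq a (H.sub ha), mul_one]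
      have e2 : ((k * A : ↥I) : G) * (l : G) = ((k * l * A : ↥I) : G) := by
        show (k : G) * a * l = k * l * a
        rw [mul_assoc, ← cl.eq, mul_assoc]
      have e3 : (k : G) * ((l * A : ↥I) : G) = ((k * l * A : ↥I) : G) := (mul_assoc _ _ _).symm
      rcases ihk with p | p <;> rcases ihl with q | q
      · exact Or.inl (p.mul_right q)
      · exact Or.inr (e3 ▸ p.mul_right q)
      · exact Or.inr (e2 ▸ p.mul_right q)
      · refine Or.inl ?_
        show Commute e ((k : G) * l)
        exact e1 ▸ p.mul_right q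
    | inv k hk ihk =>
      rcases ihk with p | p
      · exact Or.inl p.inv_right
      · refine Or.inr ?_
        have ck : Commute (k : G) a := congrArg Subtype.val (cA k hk)
        rw [show ((k⁻¹ * A : ↥I) : G) = ((k : G) * a)⁻¹ by
          show (k : G)⁻¹ * a = ((k : G) * a)⁻¹
          rw [mul_inv_rev, H.inv.inv_eq (H.sub ha), ck.inv_left.eq]]
        exact p.inv_right
  have hperf := H.data.pair_perfect (a := A) (b := B) ha hB
  rw [hcp, Group.isPerfect_def] at hperf
  let Z : Subgroup ↥(Subgroup.closure S) :=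
    (Subgroup.centralizer ({e} : Set G)).comap (I.subtype.comp (Subgroup.closure S).subtype)
  have hsub : commutator ↥(Subgroup.closure S) ≤ Z := by
    rw [commutator_def, Subgroup.commutator_le]
    intro k _ l _
    show ((⁅k, l⁆ : ↥(Subgroup.closure S)) : ↥I).1 ∈ Subgroup.centralizer ({e} : Set G)
    refine mem_cent ?_
    have key : ∀ {K L : ↥I}, Commute K A → Commute L A → ⁅K * A, L⁆ = ⁅K, L⁆ ∧ ⁅K, L * A⁆ = ⁅K, L⁆ := by
      intro K L hK hL
      constructor
      · rw [commutatorElement_def, commutatorElement_def,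
          show K * A * L * (K * A)⁻¹ * L⁻¹ = K * (A * L * A⁻¹) * K⁻¹ * L⁻¹ by group, hL.symm.eq,
          mul_inv_cancel_right]
      · rw [commutatorElement_def, commutatorElement_def,
          show K * (L * A) * K⁻¹ * (L * A)⁻¹ = K * L * (A * K⁻¹ * A⁻¹) * L⁻¹ by group,
          (hK.symm.inv_right).eq, mul_inv_cancel_right]
    obtain ⟨h1, h2⟩ := key (cA _ k.2) (cA _ l.2)
    obtain ⟨-, h3⟩ := key (L := l.1) ((cA _ k.2).mul_left (Commute.refl A)) (cA _ l.2)
    have mk : ∀ {K L : ↥I}, Commute e (K : G) → Commute e (L : G) → Commute e ((⁅K, L⁆ : ↥I) : G) :=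
      fun {K L} p q => by
        rw [commutatorElement_def, Subgroup.coe_mul, Subgroup.coe_mul, Subgroup.coe_mul,
          Subgroup.coe_inv, Subgroup.coe_inv]
        exact ((p.mul_right q).mul_right p.inv_right).mul_right q.inv_right
    show Commute e ((⁅(k : ↥I), (l : ↥I)⁆ : ↥I) : G)
    rcases two _ k.2 with p | p <;> rcases two _ l.2 with q | q
    · exact mk p q
    · exact h2 ▸ mk p q
    · exact h1 ▸ mk p q
    · exact h1 ▸ h3 ▸ mk p q
  rw [hperf] at hsub
  have hAS : A ∈ Subgroup.closure S := by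
    rw [← hcp]
    refine Subgroup.mem_centralizer_iff.mpr fun s hs => ?_
    rcases hs with rfl | rfl
    exacts [rfl, hB.2.2.eq.symm]
  have := hsub (Subgroup.mem_top ⟨A, hAS⟩)
  exact H.closed a ha e he (Subgroup.mem_centralizer_singleton_iff.mp this)

/-- the centraliser of a commuting pair product lies in the subgroup -/
theorem cent_pair_le {a b g : G} (ha : a ∈ Ω) (hb : b ∈ nb D a) (hg : Commute g (a * b)) : g ∈ I := by
  refine H.mem_of_conj ha (H.pair_member ha hb (H.inv.conj_mem g a (H.sub ha)) ?_ ?_)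
  · have h1 : Commute a (a * b) := (Commute.refl a).mul_right hb.2.2
    have := h1.map (MulAut.conj g).toMonoidHom
    rwa [show (MulAut.conj g).toMonoidHom (a * b) = a * b from mul_inv_eq_iff_eq_mul.mpr hg.eq] at this
  · rw [show g * a * g⁻¹ * (a * b) = g * a * g⁻¹ * (g * (a * b) * g⁻¹) by
      rw [show g * (a * b) * g⁻¹ = a * b from mul_inv_eq_iff_eq_mul.mpr hg.eq]]
    rw [show g * a * g⁻¹ * (g * (a * b) * g⁻¹) = g * (a * (a * b)) * g⁻¹ by group, ← mul_assoc a a,
      H.inv.sq a (H.sub ha), one_mul]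
    exact H.inv.conj_mem g b hb.1

/-- a member centralising the product of a commuting pair is in the component -/
theorem pair_cent {a b e : G} (ha : a ∈ Ω) (hb : b ∈ nb D a) (he : e ∈ D)
    (heu : Commute e (a * b)) : e ∈ Ω :=
  H.mem_of_mem he (H.cent_pair_le ha hb heu)

/-- the component is the whole class -/
theorem eq_class : Ω = D := by
  refine Set.Subset.antisymm H.sub fun x hx => ?_
  by_contra hxΩ
  have htt := H.data.core.tt
  -- all products with the component have odd order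
  have odd : ∀ ω ∈ Ω, ∀ u : G, Commute u ω → Commute u x →
      ∃ g : G, Commute u g ∧ g * ω * g⁻¹ = x := by
    intro ω hω u cω cx
    rcases H.local_cases hω hx cω cx with h | ⟨y, hy, -, -, cey, -⟩
    · exact h
    · exact absurd (H.pair_cent hω hy hx cey) hxΩ
  obtain ⟨A, hA⟩ := H.data.nonempty
  obtain ⟨B, hB⟩ := H.data.core.edge A hA
  have hb : (B : G) ∈ nb D A :=
    ⟨H.sub hB.1, fun q => hB.2.1 (Subtype.ext q), congrArg Subtype.val hB.2.2⟩
  set u := (A : G) * B with hu
  have huu : u * u = 1 := by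
    have := htt.sq_of_commute hA hB.1 hB.2.2
    exact congrArg Subtype.val this
  have hu1 : u ≠ 1 := fun q => hb.2.1 (by
    rw [← H.inv.inv_eq (H.sub hA)]; exact eq_inv_of_mul_eq_one_right q)
  -- the pair product is not in the class
  have huD : u ∉ D := by
    intro q
    have hm := H.mem_of_mem q (mul_mem A.2 B.2)
    refine H.data.ind [A * B, A, B] ?_ (by simp) (by simp) ?_ ?_ ?_
    · have n1 : A * B ≠ A := fun e => htt_ne B hB.1 (mul_eq_left.mp e)
      have n2 : A * B ≠ B := fun e => htt_ne A hA (mul_eq_right.mp e)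
      simp [n1, n2, hB.2.1.symm]
    · simp only [List.mem_cons, List.not_mem_nil, or_false, forall_eq_or_imp, forall_eq]
      exact ⟨hm, hA, hB.1⟩
    · have c := hB.2.2
      simp only [List.mem_cons, List.not_mem_nil, or_false, forall_eq_or_imp, forall_eq]
      exact ⟨⟨Commute.refl _, (Commute.refl A).mul_left c.symm, c.mul_left (Commute.refl B)⟩,
        ⟨((Commute.refl A).mul_left c.symm).symm, Commute.refl A, c⟩,
        (c.mul_left (Commute.refl B)).symm, c.symm, Commute.refl B⟩
    · simp only [List.prod_cons, List.prod_nil, mul_one]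
      exact htt.sq_of_commute hA hB.1 hB.2.2
  have heven : Even (orderOf (x * u)) := by
    by_contra ho
    obtain ⟨j, hj⟩ := odd_conj (H.inv.sq x hx) huu (Nat.not_even_iff_odd.mp ho)
    exact huD (hj ▸ H.inv.conj_mem _ x hx)
  obtain ⟨n, hn⟩ := heven
  set v := (x * u) ^ n with hv
  have hpos : 0 < n := by
    have := orderOf_pos (x * u)
    omega
  have hv1 : v ≠ 1 := fun q => by
    have := Nat.le_of_dvd hpos (orderOf_dvd_of_pow_eq_one q)
    omega
  have hvv : v * v = 1 := by rw [hv, ← pow_add, ← hn, pow_orderOf_eq_one]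
  have hxv : Commute x v := by
    have h1 : x * (x * u) * x⁻¹ = (x * u)⁻¹ := by
      rw [mul_inv_rev, inv_eq_of_mul_eq_one_left (H.inv.sq x hx), inv_eq_of_mul_eq_one_left huu,
        ← mul_assoc, H.inv.sq x hx, one_mul]
    have h2 : x * v * x⁻¹ = v := by
      rw [hv, ← conj_pow, h1, inv_pow, ← hv, inv_eq_of_mul_eq_one_left hvv]
    exact mul_inv_eq_iff_eq_mul.mp h2
  have huv : Commute u v := by
    have h1 : Commute (x * u) v := (Commute.refl _).pow_right n
    have := hxv.mul_left h1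
    rwa [← mul_assoc, H.inv.sq x hx, one_mul] at this
  have hvI : v ∈ I := H.cent_pair_le hA hb huv.symm
  obtain ⟨l, lm, lc, lp⟩ := H.data.invol_all H.geo (t := ⟨v, hvI⟩) (Subtype.ext hvv)
  obtain ⟨l', nd, len, mem, com, pr⟩ := H.data.shorten l.length l le_rfl lm lc
  rw [lp] at pr
  match l', nd, len, mem, com, pr with
  | [], _, _, _, _, pr => exact hv1 (congrArg Subtype.val pr.symm)
  | [a], _, _, mem, _, pr =>
    have ev : v = a := by rw [List.prod_singleton] at pr; exact (congrArg Subtype.val pr).symm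
    exact hxΩ (H.closed v (by rw [ev]; exact mem a (by simp)) x hx hxv.symm)
  | [a, b], nd, _, mem, com, pr =>
    have ev : v = (a : G) * b := by
      rw [List.prod_cons, List.prod_singleton] at pr; exact (congrArg Subtype.val pr).symm
    refine hxΩ (H.pair_cent (a := a) (b := b) (mem a (by simp)) ⟨H.sub (mem b (by simp)), ?_, ?_⟩ hx
      (ev ▸ hxv))
    · intro q
      simp [Subtype.ext_iff, q] at nd
    · exact congrArg Subtype.val (com a (by simp) b (by simp))
  | [a, b, c], nd, _, mem, com, pr =>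
    simp only [List.nodup_cons, List.mem_cons, List.not_mem_nil, or_false, not_or, List.nodup_nil,
      and_true, not_false_eq_true] at nd
    obtain ⟨⟨nab, nac⟩, nbc⟩ := nd
    simp only [List.mem_cons, List.not_mem_nil, or_false, forall_eq_or_imp, forall_eq] at mem com
    obtain ⟨ha, hb0, hc0⟩ := mem
    obtain ⟨⟨-, cab, cac⟩, ⟨-, -, cbc⟩, -⟩ := com
    simp only [List.prod_cons, List.prod_nil, mul_one] at pr
    -- a further common neighbour
    have hbn : b ∈ nb {x : ↥I | (x : G) ∈ Ω} a := ⟨hb0, Ne.symm nab, cab⟩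
    obtain ⟨F, iF, iFF, hF, sp, -⟩ := H.data.pair_space ha hbn
    obtain ⟨W, hW, pW⟩ := sp.surj c ⟨⟨hc0, Ne.symm nac, cac⟩, hc0, Ne.symm nbc, cbc⟩
    obtain ⟨V, hV, hVW, hs⟩ := exists_orth_pt hF hW
    have hmS := sp.mem hV
    set m := sp.pt V
    have cmc : Commute c m := pW ▸ (sp.comm hW hV).mpr hVW
    have nmc : m ≠ c := fun q => hs ((sp.same hW hV).mp (pW.trans q.symm))
    let V' : ↥I := ⟨v, hvI⟩
    have cam : Commute a m := hmS.1.2.2
    have cbm : Commute b m := hmS.2.2.2
    have cv : ∀ t : ↥I, Commute t a → Commute t b → Commute t c → Commute v (t : G) := by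
      intro t ta tb tc
      have h0 : Commute t V' := (show a * (b * c) = V' from pr) ▸ (ta.mul_right (tb.mul_right tc))
      exact (congrArg Subtype.val h0.eq).symm
    obtain ⟨g1, cg1, eg1⟩ := odd (a : G) ha v
      (cv a (Commute.refl a) cab cac) hxv.symm
    obtain ⟨g2, cg2, eg2⟩ := odd (m : G) hmS.1.1 v (cv m cam.symm cbm.symm cmc.symm) hxv.symm
    set g := g2⁻¹ * g1 with hg
    have egm : g * (a : G) * g⁻¹ = m := by
      rw [hg, show g2⁻¹ * g1 * (a : G) * (g2⁻¹ * g1)⁻¹ = g2⁻¹ * (g1 * a * g1⁻¹) * g2 by group, eg1,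
        ← eg2]
      group
    have hgI : g ∈ I := H.mem_of_conj ha (by rw [egm]; exact hmS.1.1)
    let K : ↥I := ⟨g, hgI⟩
    have cK : Commute K V' :=
      Subtype.ext (((cg2.inv_right).mul_right cg1).symm.eq)
    let σ := (MulAut.conj K).toMonoidHom
    have eσ : σ a = m := Subtype.ext egm
    have pr' : V' = σ a * (σ b * σ c) := by
      rw [← map_mul, ← map_mul, pr]
      exact (mul_inv_eq_iff_eq_mul.mpr cK.eq).symm
    have inj : Function.Injective σ := (MulAut.conj K).injective
    have key := unique_factor htt H.data.ind 3 le_rfl V' [a, b, c] [σ a, σ b, σ c]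
      ⟨by simp [nab, nac, nbc], rfl, fun t ht => by
          simp only [List.mem_cons, List.not_mem_nil, or_false] at ht
          rcases ht with rfl | rfl | rfl
          exacts [ha, hb0, hc0],
        by simp [cab, cab.symm, cac, cac.symm, cbc, cbc.symm], by simp [pr, V']⟩
      ⟨by simp [inj.eq_iff, nab, nac, nbc], rfl,
        fun t ht => by
          simp only [List.mem_cons, List.not_mem_nil, or_false] at ht
          rcases ht with rfl | rfl | rfl
          exacts [htt.conj_mem K a ha, htt.conj_mem K b hb0, htt.conj_mem K c hc0],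
        by simp [cab.map σ, (cab.map σ).symm, cac.map σ, (cac.map σ).symm, cbc.map σ,
          (cbc.map σ).symm],
        by simp [pr']⟩ m
    have hmem := key.mpr (by simp [eσ])
    simp only [List.mem_cons, List.not_mem_nil, or_false] at hmem
    rcases hmem with q | q | q
    exacts [hmS.1.2.1 q, hmS.2.2.1 q, nmc q]
where
  htt_ne (B : ↥I) (hB : (B : G) ∈ Ω) : B ≠ 1 := H.data.core.ne_one B hB

/-- the subgroup is the whole group -/
theorem eq_top : I = ⊤ := by
  obtain ⟨ω, hω⟩ := H.data.nonempty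
  refine eq_top_iff.mpr fun g _ => H.mem_of_conj (ω := ω) hω ?_
  rw [H.eq_class]
  exact H.inv.conj_mem g ω (H.sub hω)

end Comp

end Cfsg.Agent.H2.FiCentral
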