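import Cfsg.Agent.H93.Exist.Fi23Type
import Cfsg.Agent.H61.M24.Data
import Cfsg.Agent.H2.FiCentral.Central
import Cfsg.Agent.H2.FiCentral.Config
import Cfsg.Agent.H2.FiCentral.Connect

/-!
A group with an involution whose centraliser is a perfect double cover of a group of type M(22) without
roots of the involution and meeting its class outside it is the presented Fi23, the class being one of
three-transpositions of type M(23).
-/

set_option autoImplicit false
set_option maxRecDepth 8000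

namespace Cfsg.Agent.H2.FiCentral

open Cfsg.Spor Cfsg.Agent.H93 Cfsg.Agent.H93.Exist
open Cfsg.Agent.H25.Fi23 (zEl)
open Cfsg.Agent.H61.Glue (TI Closed closed_tt closed_nb Lifts exists_lifted)

/-- transport of a class of three-transpositions -/
theorem class_equiv {G G' : Type*} [Group G] [Group G'] (e : G ≃* G') {D : Set G}
    (h : Cfsg.IsThreeTranspositionClass D) : Cfsg.IsThreeTranspositionClass (e '' D) := by
  obtain ⟨⟨ho, hp⟩, ⟨d, hd, hD⟩, hg⟩ := h
  refine ⟨⟨?_, ?_⟩, ⟨e d, ⟨d, hd, rfl⟩, ?_⟩, ?_⟩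
  · rintro _ ⟨x, hx, rfl⟩
    rw [MulEquiv.orderOf_eq, ho x hx]
  · rintro _ ⟨x, hx, rfl⟩ _ ⟨y, hy, rfl⟩
    rcases hp x hx y hy with q | q
    · exact Or.inl (by rw [← map_mul, ← map_pow, q, map_one])
    · exact Or.inr (by rw [← map_mul, ← map_pow, q, map_one])
  · ext y
    constructor
    · rintro ⟨x, hx, rfl⟩
      rw [hD] at hx
      exact MonoidHom.map_isConj e.toMonoidHom hx
    · intro hy
      obtain ⟨g, hg'⟩ := isConj_iff.mp hy
      refine ⟨e.symm y, ?_, e.apply_symm_apply y⟩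
      rw [hD]
      exact isConj_iff.mpr ⟨e.symm g, e.injective (by simp [← hg'])⟩
  · change Subgroup.closure (e.toMonoidHom '' D) = ⊤
    rw [← MonoidHom.map_closure, hg, Subgroup.map_top_of_surjective _ e.surjective]

variable {G M : Type*} [Group G] [Finite G] [Group M] [Finite M] {d : G}
  {ρ : ↥(Subgroup.centralizer ({d} : Set G)) →* M} {d' : ↥(Subgroup.centralizer ({d} : Set G))}
  {E : Set M} {F : Type*} [Field F] [Fintype F] {K : Type*} [Field K] [Fintype K]
  {L : Type*} [Field L] [Fintype L]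

/-- the group is the presented Fi23, with the class one of type M(23) -/
theorem main (D : Dbl ρ d' E F K) (h : Geo22 E L) (hgen : Subgroup.closure E = ⊤) (hd' : (d' : G) = d)
    (hns : ∀ g : G, g * g ≠ d)
    (hnwc : ∃ g : G, g * d * g⁻¹ ∈ Subgroup.centralizer ({d} : Set G) ∧ g * d * g⁻¹ ≠ d) :
    Cfsg.IsThreeTranspositionClass (conjugatesOf d) ∧ Cfsg.IsOfTypeM23 G (conjugatesOf d) ∧
      Nonempty (G ≃* Cfsg.Spor.Fi23) := by
  classical
  obtain ⟨σ, hσ, hnb⟩ := exists_section D hd' hns hnwc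
  have hloc := loc_class D hd' hσ hnb
  obtain ⟨q, Lq, hqσ⟩ := exists_cover D h hσ
  haveI : Finite G23 := H25.Fi23.order_facts.1
  have hG := geo23 class23 type23
  have hM := m23data class23 type23
  have hz := zEl_mem23
  obtain ⟨q0, L0⟩ := exists_lifted hG hM hz
  -- the model of the centraliser
  let A0 : ↥(nbSub D23 (zEl : G23)) := ⟨zEl, hG.self _ hz⟩
  have cA0 : ∀ g, Commute A0 g := fun g => Subtype.ext (nbSub_commute g.2).eq
  have L0' : Cover A0 q0 := by
    refine ⟨cA0, Subtype.ext (tt23.sq _ hz), fun e => hM.core.ne_one _ hz (congrArg Subtype.val e),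
      L0.rels, L0.valR, L0.valZ, Subtype.ext L0.valM, L0.gen hG hz, ?_⟩
    obtain ⟨φ, hφ⟩ := L0.iso
    refine ⟨φ.symm.toMonoidHom.comp (QuotientGroup.mk' _), fun x => ?_, fun g hg => ?_⟩
    · show φ.symm (QuotientGroup.mk (q0 (H70.FiTwentyTwo.gIx x))) = _
      rw [← hφ, φ.symm_apply_apply]
    · have h1 := (QuotientGroup.eq_one_iff g).mp
        (φ.symm.injective (hg.trans (map_one φ.symm).symm))
      exact (hG.two _ hz g h1).imp Subtype.ext Subtype.ext
  obtain ⟨Ψ, hΨ, hΨA⟩ := L0'.equiv Lq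
  let E' : G23 → G := fun g => if hg : g ∈ nbSub D23 (zEl : G23) then (Ψ ⟨g, hg⟩ : G) else 1
  have hE : ∀ u : ↥(nbSub D23 (zEl : G23)), E' u = Ψ u := fun u => by
    simp only [E', dif_pos u.2, Subtype.coe_eta]
  have hEmul : ∀ p ∈ nbSub D23 (zEl : G23), ∀ r ∈ nbSub D23 (zEl : G23), E' (p * r) = E' p * E' r :=
    fun p hp r hr => by
    simp only [E', dif_pos hp, dif_pos hr, dif_pos (mul_mem hp hr)]
    rw [← Subgroup.coe_mul, ← map_mul]
    rfl
  have hEz : E' zEl = d := by rw [← hd', ← hΨA]; exact hE A0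
  have inj : ∀ {u v : ↥(nbSub D23 (zEl : G23))}, E' u = E' v → u = v := fun {u v} e => by
    rw [hE, hE] at e; exact Ψ.injective (Subtype.ext e)
  -- the neighbours correspond
  have h0 : E' (q0 0 : G23) ∈ nb (conjugatesOf d) d := by
    rw [hE, hΨ]
    obtain ⟨x, hx, e⟩ := hqσ 0
    exact (hnb _).mpr ⟨x, hx, by rw [e]⟩
  have conjd : ∀ {k : ↥(Subgroup.centralizer ({d} : Set G))} {y : G}, y ∈ nb (conjugatesOf d) d →
      (k : G) * y * (k : G)⁻¹ ∈ nb (conjugatesOf d) d := fun {k y} hy => by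
    have := hloc.toInv.nb_conj (k : G) hy
    rwa [mul_inv_eq_iff_eq_mul.mpr (Subgroup.mem_centralizer_singleton_iff.mp k.2)] at this
  have fwd : ∀ v ∈ nb D23 (zEl : G23), E' v ∈ nb (conjugatesOf d) d := by
    intro v hv
    obtain ⟨k, c, e⟩ := hG.conj_nb hz hv (L0.mem 0)
    let k' : ↥(nbSub D23 (zEl : G23)) := ⟨k, hG.cent _ hz ▸ mem_cent c.symm⟩
    have : v = ((k' * q0 0 * k'⁻¹ : ↥(nbSub D23 (zEl : G23))) : G23) := e.symm
    rw [this, hE, map_mul, map_mul, map_inv, Subgroup.coe_mul, Subgroup.coe_mul, Subgroup.coe_inv]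
    exact conjd (hE (q0 0) ▸ h0)
  have bwd : ∀ y ∈ nb (conjugatesOf d) d, ∃ v ∈ nb D23 (zEl : G23), E' v = y := by
    intro y hy
    obtain ⟨k, c, e⟩ := hloc.conj_nbs d (mem_conjugatesOf_self) y hy _ h0
    obtain ⟨w, hw⟩ := Ψ.surjective ⟨k, mem_cent c.symm⟩
    refine ⟨((w * q0 0 * w⁻¹ : ↥(nbSub D23 (zEl : G23))) : G23), ?_, ?_⟩
    swap
    · refine (hE (w * q0 0 * w⁻¹)).trans ?_
      rw [map_mul, map_mul, map_inv, hw, ← e, hE]
      rfl
    · exact tt23.nbSub_conj_nb hz w.2 (L0.mem 0)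
  have hLifts : Lifts D23 (conjugatesOf d) (zEl : G23) d E' := by
    refine ⟨⟨⟨fwd, fun v hv w hw e => ?_, fun y hy => ?_⟩, fun v hv w hw => ?_⟩, E', hEmul,
      fun v _ => rfl, hEz⟩
    · exact congrArg Subtype.val (inj (u := ⟨v, Subgroup.subset_closure hv⟩)
        (v := ⟨w, Subgroup.subset_closure hw⟩) e)
    · obtain ⟨v, hv, e⟩ := bwd y hy
      exact ⟨v, hv, e⟩
    · have hv' : v ∈ nbSub D23 (zEl : G23) := Subgroup.subset_closure hv
      have hw' : w ∈ nbSub D23 (zEl : G23) := Subgroup.subset_closure hw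
      rw [hEmul _ (mul_mem hv' hw') _ hv', hEmul _ hv' _ hw']
  obtain ⟨f, fmem, finj, fresp, floc, fz, -⟩ :=
    exists_class_map hG hM hloc hz mem_conjugatesOf_self hLifts
  -- the component
  set Ω : Set G := f '' D23 with hΩ
  set I := Subgroup.closure Ω with hI
  have hsub : Ω ⊆ conjugatesOf d := fun _ ⟨z, hz', e⟩ => e ▸ fmem hz'
  have hle : Ω ⊆ (I : Set G) := Subgroup.subset_closure
  have hclosed : ∀ ω ∈ Ω, ∀ y ∈ conjugatesOf d, Commute ω y → y ∈ Ω := by
    rintro _ ⟨z, hz', rfl⟩ y hy hc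
    by_cases q : y = f z
    · exact q ▸ ⟨z, hz', rfl⟩
    · obtain ⟨v, hv, e⟩ := (floc z hz').1.surjOn (show y ∈ nb (conjugatesOf d) (f z) from ⟨hy, q, hc⟩)
      exact ⟨v, hv.1, e⟩
  have hCI : Subgroup.centralizer ({d} : Set G) ≤ I := by
    have htop := closure_section D hσ hgen
    intro g hg
    have : (⟨g, hg⟩ : ↥(Subgroup.centralizer ({d} : Set G))) ∈
        I.comap (Subgroup.centralizer ({d} : Set G)).subtype := by
      refine (show (⊤ : Subgroup _) ≤ _ from htop ▸ (Subgroup.closure_le _).mpr ?_) (Subgroup.mem_top _)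
      rintro _ ⟨x, hx, rfl⟩
      have hn := (hnb _).mpr ⟨x, hx, rfl⟩
      exact hle (hclosed d ⟨_, hz, fz⟩ _ hn.1 hn.2.2)
    exact this
  let DI : Set ↥I := {x | (x : G) ∈ Ω}
  let f' : G23 → ↥I := fun z => if hz' : z ∈ D23 then ⟨f z, hle ⟨z, hz', rfl⟩⟩ else 1
  have ef : ∀ z ∈ D23, (f' z : G) = f z := fun z hz' => by simp only [f', dif_pos hz']
  have hconj : ∀ g ∈ I, ∀ ω ∈ Ω, g * ω * g⁻¹ ∈ Ω ∧ g⁻¹ * ω * g ∈ Ω := by
    intro g hg
    induction hg using Subgroup.closure_induction with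
    | mem b hb =>
      obtain ⟨b', hb', rfl⟩ := hb
      rintro _ ⟨z, hz', rfl⟩
      rw [hloc.toInv.inv_eq (fmem hb'), ← fresp b' hb' z hz']
      exact ⟨⟨_, tt23.conj_self_mem hb' hz', rfl⟩, ⟨_, tt23.conj_self_mem hb' hz', rfl⟩⟩
    | one => intro ω hω; simp [hω]
    | mul a b _ _ iha ihb =>
      intro ω hω
      constructor
      · rw [show a * b * ω * (a * b)⁻¹ = a * (b * ω * b⁻¹) * a⁻¹ by group]
        exact (iha _ (ihb ω hω).1).1
      · rw [show (a * b)⁻¹ * ω * (a * b) = b⁻¹ * (a⁻¹ * ω * a) * b by group]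
        exact (ihb _ (iha ω hω).2).2
    | inv a _ iha =>
      intro ω hω
      rw [inv_inv]
      exact ⟨(iha ω hω).2, (iha ω hω).1⟩
  have httI : TT DI := by
    refine ⟨fun a ha => Subtype.ext (hloc.sq _ (hsub ha)), fun a ha b hb => ?_,
      fun g a ha => (hconj _ g.2 _ ha).1⟩
    obtain ⟨p, hp, ep⟩ := ha
    obtain ⟨r, hr, er⟩ := hb
    have e1 := fresp p hp r hr
    have e2 := fresp r hr p hp
    rw [ep, er] at e1 e2
    have hp2 : (a : G) * a = 1 := by rw [← ep]; exact hloc.sq _ (fmem hp)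
    have hr2 : (b : G) * b = 1 := by rw [← er]; exact hloc.sq _ (fmem hr)
    by_cases c : Commute p r
    · left
      refine Subtype.ext ?_
      have h3 : (a : G) * b * a = b := by
        rw [← e1, ← er, (Cfsg.Agent.H61.Glue.commute_iff_conj (tt23.sq p hp)).mp c]
      show ((a : G) * b) ^ 2 = 1
      rw [pow_two, ← mul_assoc, h3, hr2]
    · right
      refine Subtype.ext ?_
      have h3 : (a : G) * b * a = b * a * b := by rw [← e1, ← e2, tt23.braid hp hr c]
      show ((a : G) * b) ^ 3 = 1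
      calc ((a : G) * b) ^ 3 = (a : G) * b * a * (b * a * b) := by rw [pow_succ, pow_two]; group
        _ = (b : G) * a * b * (b * a * b) := by rw [h3]
        _ = (b : G) * a * ((b : G) * b) * a * b := by group
        _ = 1 := by rw [hr2, mul_one, show (b : G) * a * a = b by rw [mul_assoc, hp2, mul_one], hr2]
  have hf' : TI f' D23 DI := by
    refine ⟨⟨fun z hz' => ?_, fun z hz' w hw e => ?_, fun x hx => ?_⟩, fun p hp r hr => ?_⟩
    · show (f' z : G) ∈ Ω
      rw [ef z hz']; exact ⟨z, hz', rfl⟩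
    · exact finj hz' hw (by rw [← ef z hz', ← ef w hw, e])
    · obtain ⟨z, hz', e⟩ := hx
      exact ⟨z, hz', Subtype.ext ((ef z hz').trans e)⟩
    · refine Subtype.ext ?_
      rw [Subgroup.coe_mul, Subgroup.coe_mul, ef _ (tt23.conj_self_mem hp hr), ef p hp, ef r hr]
      exact fresp p hp r hr
  have hgenI : Subgroup.closure DI = ⊤ := Subgroup.closure_closure_coe_preimage (k := Ω)
  have hcenI : Subgroup.center ↥I = ⊥ := by
    rw [eq_bot_iff]
    intro u hu
    have hcom : ∀ {x}, x ∈ Ω → Commute (u : G) x := fun {x} hx =>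
      (congrArg Subtype.val (Subgroup.mem_center_iff.mp hu ⟨x, hle hx⟩)).symm
    have hud : (u : G) ∈ Subgroup.centralizer ({d} : Set G) :=
      mem_cent (hcom ⟨_, hz, fz⟩).symm
    obtain ⟨w, hw⟩ := Ψ.surjective ⟨u, hud⟩
    have hwc : w ∈ Subgroup.center ↥(nbSub D23 (zEl : G23)) := by
      rw [Subgroup.mem_center_iff]
      intro k
      refine Ψ.injective (Subtype.ext ?_)
      rw [map_mul, map_mul, hw, Subgroup.coe_mul, Subgroup.coe_mul]
      have hk : (Ψ k : G) ∈ I := hCI (Ψ k).2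
      exact congrArg Subtype.val (Subgroup.mem_center_iff.mp hu ⟨_, hk⟩)
    rcases hG.two _ hz w hwc with e | e
    · refine Subgroup.mem_bot.mpr (Subtype.ext ?_)
      have : w = 1 := Subtype.ext e
      rw [this, map_one] at hw
      exact (congrArg Subtype.val hw).symm
    · exfalso
      have : w = A0 := Subtype.ext e
      rw [this, hΨA] at hw
      have hu' : (u : G) = d := (congrArg Subtype.val hw).symm.trans hd'
      have hj := gen_mem .j
      have hc : Commute d (f (gen .j)) := hu' ▸ hcom ⟨_, hj, rfl⟩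
      by_cases q : f (gen .j) = d
      · exact not_commute_j (by rw [finj hj hz (q.trans fz.symm)])
      · obtain ⟨v, hv, ev⟩ := (floc _ hz).1.surjOn
          (show f (gen .j) ∈ nb (conjugatesOf d) (f zEl) from ⟨fmem hj, fz.symm ▸ q, fz.symm ▸ hc⟩)
        exact not_commute_j (finj hv.1 hj ev ▸ hv.2.2)
  obtain ⟨e, -, heD⟩ := hf'.exists_equiv tt23 httI class23.2.2 hgenI hM.cen hcenI
  have hclass : Cfsg.IsThreeTranspositionClass DI := heD ▸ class_equiv e class23
  have htype : Cfsg.IsOfTypeM23 ↥I DI := heD ▸ H61.M24.type23_transfer e type23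
  have hcent : ∀ ω ∈ Ω, Subgroup.centralizer ({ω} : Set G) ≤ I := by
    intro ω hω g hg
    obtain ⟨i, hi⟩ := isConj_iff.mp ((m23data hclass htype).core.cls
      ⟨d, hle ⟨_, hz, fz⟩⟩ (show d ∈ Ω from ⟨_, hz, fz⟩) ⟨ω, hle hω⟩ hω)
    have hi' : (i : G) * d * (i : G)⁻¹ = ω := congrArg Subtype.val hi
    have : (i : G)⁻¹ * g * i ∈ Subgroup.centralizer ({d} : Set G) := by
      rw [Subgroup.mem_centralizer_singleton_iff]
      have hgω : g * ω = ω * g := Subgroup.mem_centralizer_singleton_iff.mp hg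
      calc (i : G)⁻¹ * g * i * d = (i : G)⁻¹ * (g * ((i : G) * d * (i : G)⁻¹)) * i := by group
        _ = (i : G)⁻¹ * (((i : G) * d * (i : G)⁻¹) * g) * i := by rw [hi', hgω]
        _ = d * ((i : G)⁻¹ * g * i) := by group
    have := mul_mem (mul_mem i.2 (hCI this)) (inv_mem i.2)
    rwa [show (i : G) * ((i : G)⁻¹ * g * i) * (i : G)⁻¹ = g by group] at this
  have hComp : Comp (conjugatesOf d) Ω I :=
    ⟨hloc.toInv, hloc.ne_one, hloc.cls, hsub, hle, hclosed, hcent, m23data hclass htype,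
      geo23 hclass htype⟩
  have hΩD := hComp.eq_class
  have hItop := hComp.eq_top
  let eI : ↥I ≃* G := (MulEquiv.subgroupCongr hItop).trans Subgroup.topEquiv
  have himg : eI '' DI = conjugatesOf d := by
    ext y
    constructor
    · rintro ⟨x, hx, rfl⟩
      exact hΩD ▸ hx
    · intro hy
      exact ⟨⟨y, hItop ▸ Subgroup.mem_top y⟩, (show y ∈ Ω from hΩD ▸ hy), rfl⟩
  refine ⟨himg ▸ class_equiv eI hclass, himg ▸ H61.M24.type23_transfer eI htype, ⟨?_⟩⟩
  exact (e.trans eI).symm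

end Cfsg.Agent.H2.FiCentral
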