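import Cfsg.Agent.S5453
import Cfsg.Agent.H93.Geo22
import Cfsg.Agent.H80.Fischer.Perfect
import Cfsg.Agent.H2.FiCentral.Main

/-!
The two forms of the characterisation of Fi23 by the centraliser of a transposition.
-/

set_option autoImplicit false

namespace Cfsg.Agent.H2.FiCentral

open Cfsg.Agent.H93

/-- a member in type M(22) has a quasisimple centraliser over PSU(6,4) and is not weakly closed in it -/
theorem member_hyp {Q : Type*} [Group Q] [Finite Q] {E : Set Q} {K : Type} [Field K] [Fintype K]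
    (h : Geo22 E K) {a : Q} (ha : a ∈ E) :
    orderOf a = 2 ∧ Cfsg.IsQuasisimple (Subgroup.centralizer ({a} : Set Q)) ∧
      (∃ (K : Type) (_ : Field K) (_ : Fintype K), Fintype.card K = 4 ∧
        ∃ _ : ((Subgroup.zpowers a).subgroupOf (Subgroup.centralizer ({a} : Set Q))).Normal,
          Nonempty ((Subgroup.centralizer ({a} : Set Q)) ⧸
            (Subgroup.zpowers a).subgroupOf (Subgroup.centralizer ({a} : Set Q)) ≃* Cfsg.PSU 6 K 2)) ∧
      ∃ g, g * a * g⁻¹ ∈ Subgroup.centralizer ({a} : Set Q) ∧ g * a * g⁻¹ ≠ a := by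
  obtain ⟨f1, f2, f3, -⟩ := Cfsg.Agent.H80.Fischer.cent22_facts h ha
  have haa := h.core.tt.sq a ha
  refine ⟨orderOf_eq_prime (by rw [pow_two, haa]) (h.core.ne_one a ha), ⟨f1, f2⟩, ?_, ?_⟩
  · obtain ⟨π, hπ⟩ := h.ext a ha
    have hker : π.ker = (Subgroup.zpowers a).subgroupOf (Subgroup.centralizer ({a} : Set Q)) := by
      ext x
      rw [Subgroup.mem_subgroupOf, MonoidHom.mem_ker]
      constructor
      · intro hx
        rcases hπ.ker x hx with q | q <;> rw [q]
        exacts [one_mem _, Subgroup.mem_zpowers a]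
      · intro hx
        rcases zpowers_invol haa hx with q | q
        · rw [show x = 1 from Subtype.ext q, map_one]
        · rw [show x = ⟨a, mem_cent (Commute.refl a)⟩ from Subtype.ext q, hπ.π_d h.hK]
    haveI hn : ((Subgroup.zpowers a).subgroupOf (Subgroup.centralizer ({a} : Set Q))).Normal :=
      hker ▸ π.normal_ker
    exact ⟨K, inferInstance, inferInstance, h.hK, hn,
      ⟨(QuotientGroup.quotientMulEquivOfEq hker.symm).trans
        (QuotientGroup.quotientKerEquivOfSurjective π hπ.surj)⟩⟩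
  · obtain ⟨b, hb, hne, hc⟩ := h.core.edge a ha
    obtain ⟨g, hg⟩ := isConj_iff.mp (h.core.cls a ha b hb)
    exact ⟨g, hg.symm ▸ mem_cent hc, hg.symm ▸ hne⟩

/-- the hypotheses of the statements give the presented Fi23 -/
theorem of_hyps {G : Type*} [Group G] [Finite G] (d : G) (hd : orderOf d = 2)
    (hq : Cfsg.IsQuasisimple (Subgroup.centralizer ({d} : Set G)))
    [((Subgroup.zpowers d).subgroupOf (Subgroup.centralizer ({d} : Set G))).Normal]
    (htype : ∃ E : Set ((Subgroup.centralizer ({d} : Set G)) ⧸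
        (Subgroup.zpowers d).subgroupOf (Subgroup.centralizer ({d} : Set G))),
      Cfsg.IsThreeTranspositionClass E ∧ Cfsg.IsOfTypeM22 _ E)
    (hnwc : ∃ g : G, g * d * g⁻¹ ∈ Subgroup.centralizer ({d} : Set G) ∧ g * d * g⁻¹ ≠ d) :
    Cfsg.IsThreeTranspositionClass (conjugatesOf d) ∧ Cfsg.IsOfTypeM23 G (conjugatesOf d) ∧
      Nonempty (G ≃* Cfsg.Spor.Fi23) := by
  classical
  obtain ⟨E, hE, h22⟩ := htype
  obtain ⟨L, iL, iLF, hgeo⟩ := geo22 hE h22
  obtain ⟨a0, ha0, -⟩ := hE.2.1
  have hinvol := member_hyp hgeo ha0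
  have hns := (Cfsg.Agent.S5453.result d hd hq ⟨E, hE, h22⟩ ⟨a0, hinvol⟩ hnwc).2
  obtain ⟨F, iF, iFF, h, K, iK, iKF, hK, hcent, hext⟩ := cent22 hE h22
  have hdd : d * d = 1 := by
    have := pow_orderOf_eq_one d
    rwa [hd, pow_two] at this
  have hd1 : d ≠ 1 := fun e1 => by rw [e1, orderOf_one] at hd; omega
  let C := Subgroup.centralizer ({d} : Set G)
  let N := (Subgroup.zpowers d).subgroupOf C
  let d' : C := ⟨d, Subgroup.mem_centralizer_singleton_iff.mpr rfl⟩
  have hmemN : ∀ y : C, (QuotientGroup.mk y : C ⧸ N) = 1 → y = 1 ∨ y = d' := fun y hy => by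
    rcases zpowers_invol hdd (Subgroup.mem_subgroupOf.mp ((QuotientGroup.eq_one_iff y).mp hy))
      with q | q
    exacts [Or.inl (Subtype.ext q), Or.inr (Subtype.ext q)]
  have hperfC : ∀ c ∈ E, commutator ↥(Subgroup.centralizer ({c} : Set (C ⧸ N))) = ⊤ := fun c hc =>
    (Cfsg.Agent.H80.Fischer.cent22_facts hgeo hc).1.commutator_eq_top
  have D : Dbl (QuotientGroup.mk' N) d' E F K :=
    { data := h, hK := hK, cent := hcent, ext := hext, perfC := hperfC
      perf := hq.1.commutator_eq_top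
      surj := QuotientGroup.mk'_surjective N
      ker := hmemN
      map_d := (QuotientGroup.eq_one_iff d').mpr
        (Subgroup.mem_subgroupOf.mpr (Subgroup.mem_zpowers d))
      cen := fun x => Subtype.ext (Subgroup.mem_centralizer_singleton_iff.mp x.2).symm
      sq := Subtype.ext hdd
      ne := fun e => hd1 (congrArg Subtype.val e)
      nsq := fun x e => hns ⟨(x : G), by rw [pow_two]; exact congrArg Subtype.val e⟩ }
  exact main D hgeo hE.2.2 rfl (fun g e => hns ⟨g, by rw [pow_two, e]⟩) hnwc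

end Cfsg.Agent.H2.FiCentral
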