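import Cfsg.Agent.H93.DoubleConj

/-!
The fused orbit in the preimage of a maximal elementary abelian 2-subgroup consists of the central involution
and the lifts of members by one section.
-/

set_option autoImplicit false

namespace Cfsg.Agent.H2.FiCentral

open Cfsg.Agent.H93

variable {C M : Type*} [Group C] [Group M] [Finite C] [Finite M] {ρ : C →* M} {d : C} {E : Set M}
  {F : Type*} [Field F] [Fintype F] {K : Type*} [Field K] [Fintype K]

theorem orbit_section (D : Dbl ρ d E F K) {X : Subgroup M}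
    (hXab : ∀ x ∈ X, ∀ y ∈ X, Commute x y) (hXsq : ∀ x ∈ X, x * x = 1) (hXcard : Nat.card X = 1024)
    (hinto : ∀ l : List M, (∀ a ∈ l, a ∈ E) → (∀ a ∈ l, ∀ b ∈ l, Commute a b) →
      ∃ g : M, ∀ a ∈ l, g * a * g⁻¹ ∈ X)
    (R : Subgroup (MulAut ↥(X.comap ρ))) {dA : ↥(X.comap ρ)} (hdA : (dA : C) = d)
    {Ω : Set ↥(X.comap ρ)} (horb : Ω = MulAction.orbit R dA)
    (hfuse : ∀ (k : C) (x y : ↥(X.comap ρ)), x ∈ Ω → k * (x : C) * k⁻¹ = y → y ∈ Ω)
    (hnsq : ∀ x ∈ Ω, ¬ ∃ y : C, y * y = (x : C)) (hother : ∃ x ∈ Ω, x ≠ dA) : ∃ σ, Sec ρ E σ ∧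
      ∀ x ∈ Ω, x = dA ∨ (ρ (x : C) ∈ E ∧ (x : C) = σ (ρ (x : C))) := by
  classical
  have h := D.data
  have htt := h.core.tt
  obtain ⟨σ, hσ⟩ := D.exists_sec
  obtain ⟨cM, hkinds⟩ := h.top_kinds D.hK D.ext D.perfC hXab hXsq hXcard
  have h2A : ∀ x : ↥(X.comap ρ), x * x = 1 := fun x => Subtype.ext (D.invol (hXsq _ x.2))
  letI : CommGroup ↥(X.comap ρ) :=
    { (inferInstance : Group ↥(X.comap ρ)) with
      mul_comm := fun x y => Subtype.ext (D.commute (hXsq _ x.2) (hXsq _ y.2) (hXab _ x.2 _ y.2)).eq }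
  let ψ : ↥(X.comap ρ) →* M := ρ.comp (X.comap ρ).subtype
  have ψX : ∀ x, ψ x ∈ X := fun x => x.2
  have ψd : ψ dA = 1 := by show ρ (dA : C) = 1; rw [hdA, D.map_d]
  have ψker : ∀ {x y : ↥(X.comap ρ)}, ψ x = ψ y → y = x ∨ y = x * dA := fun {x y} e => by
    rcases D.eq_or (show ρ (x : C) = ρ (y : C) from e) with q | q
    · exact Or.inl (Subtype.ext q)
    · exact Or.inr (Subtype.ext (by rw [Subgroup.coe_mul, hdA]; exact q))
  set Em := E ∩ (X : Set M) with hEm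
  let s : ↥Em → ↥(X.comap ρ) := fun y => ⟨σ y.1, by show ρ (σ y.1) ∈ X; rw [hσ.img _ y.2.1]; exact y.2.2⟩
  have ψs : ∀ y : ↥Em, ψ (s y) = y.1 := fun y => hσ.img _ y.2.1
  set K1 := Set.range s with hK1
  set P1 : Set ↥(X.comap ρ) := {x | ∃ y z : ↥Em, y ≠ z ∧ x = s y * s z} with hP1
  set Z1 : Set ↥(X.comap ρ) := {x | ∃ y z u : ↥Em, y ≠ z ∧ y ≠ u ∧ z ≠ u ∧
    (x = s y * s z * s u ∨ x = s y * s z * s u * dA)} with hZ1
  have sinj : Function.Injective s := fun y z e => Subtype.ext (by rw [← ψs y, ← ψs z, e])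
  have em_comm : ∀ y z : ↥Em, Commute y.1 z.1 := fun y z => hXab _ y.2.2 _ z.2.2
  have em_nb : ∀ {y z : ↥Em}, y ≠ z → z.1 ∈ nb E y.1 := fun {y z} hne =>
    ⟨z.2.1, fun e => hne (Subtype.ext e).symm, em_comm y z⟩
  -- small relations
  letI : CommGroup ↥X :=
    { (inferInstance : Group ↥X) with mul_comm := fun x y => Subtype.ext (hXab _ x.2 _ y.2).eq }
  obtain ⟨two, three⟩ := small_rel (A := ↥X) (fun x => Subtype.ext (hXsq _ x.2))
    (Em := {x : ↥X | (x : M) ∈ E}) (fun l h1 h2 h3 h4 e => by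
      refine h.ind (l.map X.subtype) (h1.map (Subgroup.subtype_injective X)) (fun q => h2 (List.map_eq_nil_iff.mp q))
        (by simpa using h3) ?_ ?_ (by rw [← map_list_prod, e, map_one])
      · intro y hy
        obtain ⟨x, hx, rfl⟩ := List.mem_map.mp hy
        exact h4 x hx
      · intro y hy z hz
        obtain ⟨x, hx, rfl⟩ := List.mem_map.mp hy
        obtain ⟨x', hx', rfl⟩ := List.mem_map.mp hz
        exact hXab _ x.2 _ x'.2)
  let toX : ↥Em → ↥X := fun y => ⟨y.1, y.2.2⟩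
  have toX_ne : ∀ {y z : ↥Em}, y ≠ z → toX y ≠ toX z := fun hne e =>
    hne (Subtype.ext (congrArg (fun x : ↥X => (x : M)) e))
  have two' : ∀ {y z : ↥Em}, y ≠ z → y.1 * z.1 ≠ 1 ∧ y.1 * z.1 ∉ E := fun {y z} hne =>
    ⟨fun e => (two (x := toX y) (y := toX z) y.2.1 z.2.1 (toX_ne hne)).1 (Subtype.ext e),
      (two (x := toX y) (y := toX z) y.2.1 z.2.1 (toX_ne hne)).2⟩
  have three' : ∀ {y z u : ↥Em}, y ≠ z → y ≠ u → z ≠ u →
      y.1 * z.1 * u.1 ≠ 1 ∧ y.1 * z.1 * u.1 ∉ E ∧ ∀ {v w : ↥Em}, v ≠ w → y.1 * z.1 * u.1 ≠ v.1 * w.1 := by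
    intro y z u h1 h2 h3
    obtain ⟨a1, a2, a3⟩ := three (x := toX y) (y := toX z) (z := toX u) y.2.1 z.2.1 u.2.1
      (toX_ne h1) (toX_ne h2) (toX_ne h3)
    exact ⟨fun e => a1 (Subtype.ext e), a2,
      fun {v w} hvw e => a3 (v := toX v) (w := toX w) v.2.1 w.2.1 (toX_ne hvw) (Subtype.ext e)⟩
  have hP2 : Pair2 E := pair2_of_indep htt h.ind (by norm_num)
  have pair_same : ∀ {y z v w : ↥Em}, y ≠ z → v ≠ w → y.1 * z.1 = v.1 * w.1 →
      (y = v ∧ z = w) ∨ (y = w ∧ z = v) := by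
    intro y z v w hyz hvw e
    rcases hP2 _ y.2.1 _ z.2.1 _ v.2.1 _ w.2.1 (fun q => hyz (Subtype.ext q))
      (fun q => hvw (Subtype.ext q)) (em_comm y z) (em_comm v w) e with q | q
    · rw [q] at e
      exact Or.inl ⟨Subtype.ext q, Subtype.ext (mul_left_cancel e)⟩
    · rw [q, (em_comm v w).eq] at e
      exact Or.inr ⟨Subtype.ext q, Subtype.ext (mul_left_cancel e)⟩
  -- images of the kinds
  have kK : ∀ x ∈ K1 ∪ tr dA K1, ∃ y : ↥Em, ψ x = y.1 := by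
    rintro x (⟨y, rfl⟩ | ⟨_, ⟨y, rfl⟩, rfl⟩)
    exacts [⟨y, ψs y⟩, ⟨y, by rw [map_mul, ψd, mul_one, ψs]⟩]
  have kP : ∀ x ∈ P1 ∪ tr dA P1, ∃ y z : ↥Em, y ≠ z ∧ ψ x = y.1 * z.1 := by
    rintro x (⟨y, z, hne, rfl⟩ | ⟨_, ⟨y, z, hne, rfl⟩, rfl⟩)
    exacts [⟨y, z, hne, by rw [map_mul, ψs, ψs]⟩,
      ⟨y, z, hne, by rw [map_mul, ψd, mul_one, map_mul, ψs, ψs]⟩]
  have kZ : ∀ x ∈ Z1, ∃ y z u : ↥Em, y ≠ z ∧ y ≠ u ∧ z ≠ u ∧ ψ x = y.1 * z.1 * u.1 := by
    rintro x ⟨y, z, u, h1, h2, h3, rfl | rfl⟩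
    exacts [⟨y, z, u, h1, h2, h3, by rw [map_mul, map_mul, ψs, ψs, ψs]⟩,
      ⟨y, z, u, h1, h2, h3, by rw [map_mul, ψd, mul_one, map_mul, map_mul, ψs, ψs, ψs]⟩]
  have hdA1 : dA ≠ 1 := fun e => D.ne (by rw [← hdA, e]; rfl)
  have hne_d : ∀ x : ↥(X.comap ρ), x * dA ≠ x := fun x e => hdA1 (mul_eq_left.mp e)
  have hcov : ∀ x, x ∈ ({1, dA} : Set ↥(X.comap ρ)) ∪ K1 ∪ tr dA K1 ∪ P1 ∪ tr dA P1 ∪ Z1 := by
    intro x
    rcases hkinds _ (ψX x) with e | e | ⟨y, hy, z, hz, hne, e⟩ | ⟨y, hy, z, hz, u, hu, h1, h2, h3, e⟩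
    · rcases ψker (x := 1) (y := x) (by rw [map_one, e]) with q | q
      · exact Or.inl (Or.inl (Or.inl (Or.inl (Or.inl (Or.inl q)))))
      · exact Or.inl (Or.inl (Or.inl (Or.inl (Or.inl (Or.inr (q.trans (one_mul _)))))))
    · rcases ψker (x := s ⟨ψ x, e, ψX x⟩) (y := x) (ψs _) with q | q
      · exact Or.inl (Or.inl (Or.inl (Or.inl (Or.inr ⟨_, q.symm⟩))))
      · exact Or.inl (Or.inl (Or.inl (Or.inr ⟨_, ⟨_, rfl⟩, q.symm⟩)))
    · have hn : (⟨y, hy⟩ : ↥Em) ≠ ⟨z, hz⟩ := fun q => hne (congrArg Subtype.val q)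
      rcases ψker (x := s ⟨y, hy⟩ * s ⟨z, hz⟩) (y := x) (by rw [map_mul, ψs, ψs, e]) with q | q
      · exact Or.inl (Or.inl (Or.inr ⟨_, _, hn, q⟩))
      · exact Or.inl (Or.inr ⟨_, ⟨_, _, hn, rfl⟩, q.symm⟩)
    · exact Or.inr ⟨⟨y, hy⟩, ⟨z, hz⟩, ⟨u, hu⟩, fun q => h1 (congrArg Subtype.val q),
        fun q => h2 (congrArg Subtype.val q), fun q => h3 (congrArg Subtype.val q),
        ψker (by rw [map_mul, map_mul, ψs, ψs, ψs, e])⟩
  have cK : K1.ncard = 22 := by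
    rw [hK1, ← Set.image_univ, Set.ncard_image_of_injective _ sinj, Set.ncard_univ,
      Nat.card_coe_set_eq, cM]
  have cP : P1.ncard = 231 := by
    haveI : Fintype ↥Em := Fintype.ofFinite _
    let f : {z : Sym2 ↥Em // ¬ z.IsDiag} → ↥(X.comap ρ) := fun z =>
      Sym2.lift ⟨fun y u => s y * s u, fun y u => mul_comm _ _⟩ z.1
    have hinj : Function.Injective f := by
      rintro ⟨z, hz⟩ ⟨z', hz'⟩ e
      induction z using Sym2.ind with
      | _ y u =>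
      induction z' using Sym2.ind with
      | _ y' u' =>
      rw [Sym2.mk_isDiag_iff] at hz hz'
      have e' : s y * s u = s y' * s u' := e
      have := congrArg ψ e'
      rw [map_mul, map_mul, ψs, ψs, ψs, ψs] at this
      exact Subtype.ext (Sym2.eq_iff.mpr (pair_same hz hz' this))
    have hrange : Set.range f = P1 := by
      ext x
      constructor
      · rintro ⟨⟨z, hz⟩, rfl⟩
        induction z using Sym2.ind with
        | _ y u =>
        rw [Sym2.mk_isDiag_iff] at hz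
        exact ⟨y, u, hz, rfl⟩
      · rintro ⟨y, u, hne, rfl⟩
        exact ⟨⟨s(y, u), by rwa [Sym2.mk_isDiag_iff]⟩, rfl⟩
    rw [← hrange, ← Set.image_univ, Set.ncard_image_of_injective _ hinj, Set.ncard_univ,
      Nat.card_eq_fintype_card, Sym2.card_subtype_not_diag, ← Nat.card_eq_fintype_card,
      Nat.card_coe_set_eq, cM]
    rfl
  -- six members
  obtain ⟨a', c1, c2, c3, c4, c5, hnd', hm', hsix⟩ := D.exists_six_in hσ hinto
  simp only [List.mem_cons, List.not_mem_nil, or_false, forall_eq_or_imp, forall_eq] at hm'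
  obtain ⟨q0, q1, q2, q3, q4, q5⟩ := hm'
  set a : ↥Em := ⟨a', q0⟩
  set b1 : ↥Em := ⟨c1, q1⟩
  set b2 : ↥Em := ⟨c2, q2⟩
  set b3 : ↥Em := ⟨c3, q3⟩
  set b4 : ↥Em := ⟨c4, q4⟩
  set b5 : ↥Em := ⟨c5, q5⟩
  have hnd : [a, b1, b2, b3, b4, b5].Nodup := by
    apply List.Nodup.of_map Subtype.val
    simpa [a, b1, b2, b3, b4, b5] using hnd'
  have hprod : s a * s b1 * s b2 * s b3 * s b4 * s b5 = dA := Subtype.ext (by
    rw [hdA]; exact hsix)
  simp only [List.nodup_cons, List.mem_cons, List.not_mem_nil, or_false, not_or,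
    List.nodup_nil, and_true, not_false_eq_true] at hnd
  obtain ⟨⟨a1, a2, a3, a4, a5⟩, ⟨n12, n13, n14, n15⟩, ⟨n23, n24, n25⟩, ⟨n34, n35⟩, n45⟩ := hnd
  -- conjugacy
  have move : ∀ (k : C) (y z : ↥Em), ρ k * y.1 * (ρ k)⁻¹ = z.1 →
      k * (s y : C) * k⁻¹ = (s z : C) := fun k y z e => by
    have := hσ.conj k y.1 y.2.1
    rw [e] at this
    exact this
  have cd : ∀ (k : C) (x y : ↥(X.comap ρ)), k * (x : C) * k⁻¹ = (y : C) →
      k * ((x * dA : ↥(X.comap ρ)) : C) * k⁻¹ = ((y * dA : ↥(X.comap ρ)) : C) := fun k x y e => by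
    rw [Subgroup.coe_mul, Subgroup.coe_mul, hdA, ← e,
      show k * ((x : C) * d) * k⁻¹ = k * x * k⁻¹ * (k * d * k⁻¹) by group,
      show k * d * k⁻¹ = d by rw [← (D.cen k).eq, mul_inv_cancel_right]]
  have cjK : ∀ x ∈ K1, ∀ y ∈ K1, ∃ k : C, k * (x : C) * k⁻¹ = (y : C) := by
    rintro _ ⟨y, rfl⟩ _ ⟨z, rfl⟩
    obtain ⟨g, hg⟩ := isConj_iff.mp (h.core.cls _ y.2.1 _ z.2.1)
    obtain ⟨k, rfl⟩ := D.surj g
    exact ⟨k, move k y z hg⟩
  have cjP : ∀ x ∈ P1, ∀ y ∈ P1, ∃ k : C, k * (x : C) * k⁻¹ = (y : C) := by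
    rintro _ ⟨y, z, hyz, rfl⟩ _ ⟨v, w, hvw, rfl⟩
    obtain ⟨g1, hg1⟩ := isConj_iff.mp (h.core.cls _ y.2.1 _ v.2.1)
    have hz := htt.nb_conj g1 (em_nb hyz)
    rw [hg1] at hz
    obtain ⟨g2, e2, f2, -⟩ := exists_conj_nb h.core hz (em_nb hvw) v.2.1
      ((h.spaces _ v.2.1).some.sep h.hF)
    obtain ⟨k, hk⟩ := D.surj (g2 * g1)
    refine ⟨k, ?_⟩
    rw [Subgroup.coe_mul, Subgroup.coe_mul, ← move k y v ?_, ← move k z w ?_]
    · group
    · rw [hk, ← e2]; group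
    · rw [hk, ← f2, ← hg1]; group
  have conjT : ∀ {y z u v w t : ↥Em}, y ≠ z → y ≠ u → z ≠ u → v ≠ w → v ≠ t → w ≠ t → ∃ k : C,
      k * ((s y * s z * s u : ↥(X.comap ρ)) : C) * k⁻¹ = ((s v * s w * s t : ↥(X.comap ρ)) : C) := by
    intro y z u v w t h1 h2 h3 g1 g2 g3
    obtain ⟨g, hg⟩ := h.trans3 D.cent y.2.1 (em_nb h1) ⟨em_nb h2, em_nb h3⟩ v.2.1 (em_nb g1)
      ⟨em_nb g2, em_nb g3⟩
    obtain ⟨k, rfl⟩ := D.surj g
    simp only [conj3, Prod.mk.injEq] at hg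
    refine ⟨k, ?_⟩
    simp only [Subgroup.coe_mul, ← move k y v hg.1, ← move k z w hg.2.1, ← move k u t hg.2.2]
    group
  have hflip : s b3 * s b4 * s b5 = s a * s b1 * s b2 * dA := by
    rw [← hprod]
    calc s b3 * s b4 * s b5 = (s a * s b1 * s b2) * (s a * s b1 * s b2) * (s b3 * s b4 * s b5) := by
          rw [h2A, one_mul]
      _ = _ := by simp only [mul_assoc]
  have cjZ : ∀ x ∈ Z1, ∀ y ∈ Z1, ∃ k : C, k * (x : C) * k⁻¹ = (y : C) := by
    have one : ∀ x ∈ Z1, ∃ k : C, k * ((s a * s b1 * s b2 : ↥(X.comap ρ)) : C) * k⁻¹ = (x : C) := by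
      rintro x ⟨y, z, u, h1, h2, h3, rfl | rfl⟩
      · exact conjT a1 a2 n12 h1 h2 h3
      · obtain ⟨k1, e1⟩ := conjT (y := a) (z := b1) (u := b2) (v := b3) (w := b4) (t := b5)
          a1 a2 n12 n34 n35 n45
        obtain ⟨k2, e2⟩ := conjT a1 a2 n12 h1 h2 h3
        rw [hflip] at e1
        refine ⟨k2 * k1, ?_⟩
        rw [← cd k2 _ _ e2, ← e1]
        group
    intro x hx y hy
    obtain ⟨k, ek⟩ := one x hx
    obtain ⟨k', ek'⟩ := one y hy
    exact ⟨k' * k⁻¹, by rw [← ek, ← ek']; group⟩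
  have aTr : ∀ {X' : Set ↥(X.comap ρ)}, (∀ x ∈ X', ∀ y ∈ X', ∃ k : C, k * (x : C) * k⁻¹ = (y : C)) →
      ∀ x ∈ tr dA X', x ∈ Ω → ∀ y ∈ tr dA X', y ∈ Ω := by
    rintro X' hX' _ ⟨x, hx, rfl⟩ hxΩ _ ⟨y, hy, rfl⟩
    obtain ⟨k, hk⟩ := hX' x hx y hy
    exact hfuse k _ _ hxΩ (cd k x y hk)
  -- squares
  have hPΩ : ∀ x ∈ P1, x ∉ Ω := by
    rintro _ ⟨y, z, hne, rfl⟩ hxΩ
    obtain ⟨g, gg, g1, -⟩ := h.swap y.2.1 (em_nb hne)
    obtain ⟨t, rfl⟩ := D.surj g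
    have tt : t * t = 1 := D.invol gg
    have e := move t y z g1
    rw [inv_eq_of_mul_eq_one_left tt] at e
    refine hnsq _ hxΩ ⟨(s y : C) * t, ?_⟩
    rw [show (s y : C) * t * ((s y : C) * t) = (s y : C) * (t * (s y : C) * t) by group, e,
      Subgroup.coe_mul]
  have h23 : Ω.ncard = 23 := by
    refine twenty_three h2A (by rw [D.card_comap hXcard]; norm_num) R (d := dA) (K := K1) (P := P1) (Z := Z1)
      horb (fun hc => hnsq 1 hc ⟨1, by simp⟩) hother cK cP hcov ?_ ?_ ?_ ?_ ?_ hdA1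
      (fun x hx hxΩ y hy => ?_) (aTr cjK) (aTr cjP) (fun x hx hxΩ y hy => ?_) hPΩ ?_ ?_
      ⟨s a, s b1, s b2, s b3, s b4, s b5, ?_, ?_, hprod⟩
    · have one : ∀ x ∈ ({1, dA} : Set ↥(X.comap ρ)), ψ x = 1 := by
        rintro x (rfl | rfl); exacts [map_one ψ, ψd]
      refine Set.disjoint_left.mpr fun x hx hx' => ?_
      rcases hx' with (((q | q) | q) | q) | q
      iterate 2
        · obtain ⟨y, e⟩ := kK x (by first | exact Or.inl q | exact Or.inr q)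
          exact h.core.ne_one _ y.2.1 (e.symm.trans (one x hx))
      iterate 2
        · obtain ⟨y, z, hne, e⟩ := kP x (by first | exact Or.inl q | exact Or.inr q)
          exact (two' hne).1 (e.symm.trans (one x hx))
      · obtain ⟨y, z, u, h1, h2, h3, e⟩ := kZ x q
        exact (three' h1 h2 h3).1 (e.symm.trans (one x hx))
    · refine Set.disjoint_left.mpr ?_
      rintro _ ⟨y, rfl⟩ ⟨_, ⟨z, rfl⟩, e⟩
      have e' := congrArg ψ e
      simp only [map_mul, ψd, mul_one, ψs] at e'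
      rw [show z = y from Subtype.ext e'] at e
      exact hne_d _ e
    · refine Set.disjoint_left.mpr fun x hx hx' => ?_
      obtain ⟨y, e⟩ := kK x hx
      rcases hx' with q | q
      · obtain ⟨v, w, hne, e'⟩ := kP x q
        exact (two' hne).2 (e'.symm.trans e ▸ y.2.1)
      · obtain ⟨v, w, u, h1, h2, h3, e'⟩ := kZ x q
        exact (three' h1 h2 h3).2.1 (e'.symm.trans e ▸ y.2.1)
    · refine Set.disjoint_left.mpr ?_
      rintro _ ⟨y, z, hne, rfl⟩ ⟨_, ⟨v, w, hne', rfl⟩, e⟩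
      have e' := congrArg ψ e
      simp only [map_mul, ψd, mul_one, ψs] at e'
      rcases pair_same hne' hne e' with ⟨rfl, rfl⟩ | ⟨rfl, rfl⟩
      · exact hne_d _ e
      · exact hne_d _ (e.trans (mul_comm _ _))
    · refine Set.disjoint_left.mpr fun x hx hx' => ?_
      obtain ⟨v, w, hne, e⟩ := kP x hx
      obtain ⟨y, z, u, h1, h2, h3, e'⟩ := kZ x hx'
      exact (three' h1 h2 h3).2.2 hne (e'.symm.trans e)
    · obtain ⟨k, hk⟩ := cjK x hx y hy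
      exact hfuse k x y hxΩ hk
    · obtain ⟨k, hk⟩ := cjZ x hx y hy
      exact hfuse k x y hxΩ hk
    · rintro _ ⟨y, rfl⟩ _ ⟨z, rfl⟩ hne
      exact ⟨y, z, fun q => hne (congrArg s q), rfl⟩
    · rintro _ ⟨y, rfl⟩ _ ⟨z, rfl⟩ _ ⟨u, rfl⟩ h1 h2 h3
      exact ⟨⟨y, z, u, fun q => h1 (congrArg s q), fun q => h2 (congrArg s q), fun q => h3 (congrArg s q),
        Or.inl rfl⟩, ⟨y, z, u, fun q => h1 (congrArg s q), fun q => h2 (congrArg s q),
        fun q => h3 (congrArg s q), Or.inr rfl⟩⟩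
    · have h6 : [a, b1, b2, b3, b4, b5].Nodup := by
        simp [a1, a2, a3, a4, a5, n12, n13, n14, n15, n23, n24, n25, n34, n35, n45]
      simpa using h6.map sinj
    · intro x hx
      simp only [List.mem_cons, List.not_mem_nil, or_false] at hx
      rcases hx with rfl | rfl | rfl | rfl | rfl | rfl <;> exact ⟨_, rfl⟩

  have ctr : ∀ X' : Set ↥(X.comap ρ), (tr dA X').ncard = X'.ncard := fun X' =>
    Set.ncard_image_of_injective _ (mul_left_injective dA)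
  have small : ∀ X' : Set ↥(X.comap ρ), 23 < X'.ncard → ¬ X' ⊆ Ω := fun X' h' hs => by
    have := Set.ncard_le_ncard hs
    omega
  have hK' : ∀ x ∈ K1, x ∈ Ω → ∀ y ∈ K1, y ∈ Ω := fun x hx hxΩ y hy => by
    obtain ⟨k, hk⟩ := cjK x hx y hy
    exact hfuse k x y hxΩ hk
  have noP : ∀ x ∈ tr dA P1, x ∉ Ω := fun x hx hxΩ =>
    small _ (by rw [ctr, cP]; norm_num) (aTr cjP x hx hxΩ)
  have noZ : ∀ x ∈ Z1, x ∉ Ω := fun x hx hxΩ => by
    refine small Z1 ?_ fun y hy => (by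
      obtain ⟨k, hk⟩ := cjZ x hx y hy
      exact hfuse k x y hxΩ hk)
    -- many triples through two fixed members
    set W : Set ↥Em := {u | u ≠ a ∧ u ≠ b1} with hW
    have hWc : 20 ≤ W.ncard := by
      have e1 : W = ({a, b1} : Set ↥Em)ᶜ := by ext u; simp [hW]
      rw [e1, Set.ncard_compl, Set.ncard_pair a1, Nat.card_coe_set_eq, cM]
    let f : ↥Em → ↥(X.comap ρ) := fun u => s a * s b1 * s u
    have finj : Function.Injective f := fun u v e => sinj (mul_left_cancel e)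
    have hsub : f '' W ∪ tr dA (f '' W) ⊆ Z1 := by
      rintro y (⟨u, hu, rfl⟩ | ⟨_, ⟨u, hu, rfl⟩, rfl⟩)
      exacts [⟨a, b1, u, a1, hu.1.symm, hu.2.symm, Or.inl rfl⟩,
        ⟨a, b1, u, a1, hu.1.symm, hu.2.symm, Or.inr rfl⟩]
    have hdisj : Disjoint (f '' W) (tr dA (f '' W)) := by
      refine Set.disjoint_left.mpr ?_
      rintro _ ⟨u, hu, rfl⟩ ⟨_, ⟨v, hv, rfl⟩, e⟩
      have e' := congrArg ψ e
      simp only [f, map_mul, ψd, mul_one, ψs] at e'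
      rw [show v = u from Subtype.ext (mul_left_cancel e')] at e
      exact hne_d _ e
    have := Set.ncard_le_ncard hsub
    rw [Set.ncard_union_eq hdisj, ctr, Set.ncard_image_of_injective _ finj] at this
    omega
  have kind : ∀ x ∈ Ω, x = dA ∨ x ∈ K1 ∨ x ∈ tr dA K1 := by
    intro x hx
    rcases hcov x with ((((h' | h') | h') | h') | h') | h'
    · rcases h' with rfl | h'
      · exact absurd ⟨1, by simp⟩ (hnsq 1 hx)
      · exact Or.inl h'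
    · exact Or.inr (Or.inl h')
    · exact Or.inr (Or.inr h')
    · exact absurd hx (hPΩ x h')
    · exact absurd hx (noP x h')
    · exact absurd hx (noZ x h')
  by_cases hk : ∃ x ∈ K1, x ∈ Ω
  · obtain ⟨x0, m0, o0⟩ := hk
    refine ⟨σ, hσ, fun x hx => ?_⟩
    rcases kind x hx with h' | ⟨y, rfl⟩ | h'
    · exact Or.inl h'
    · refine Or.inr ?_
      have e1 : ρ (s y : C) = y.1 := ψs y
      rw [e1]
      exact ⟨y.2.1, rfl⟩
    · exfalso
      have hdKK : Disjoint K1 (tr dA K1) := by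
        refine Set.disjoint_left.mpr ?_
        rintro _ ⟨y, rfl⟩ ⟨_, ⟨z, rfl⟩, e⟩
        have e' := congrArg ψ e
        simp only [map_mul, ψd, mul_one, ψs] at e'
        rw [show z = y from Subtype.ext e'] at e
        exact hne_d _ e
      refine small (K1 ∪ tr dA K1) ?_ (Set.union_subset (hK' x0 m0 o0) (aTr cjK x h' hx))
      rw [Set.ncard_union_eq hdKK, ctr, cK]
      norm_num
  · refine ⟨fun z => σ z * d, hσ.flip D, fun x hx => ?_⟩
    rcases kind x hx with h' | h' | ⟨_, ⟨y, rfl⟩, rfl⟩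
    · exact Or.inl h'
    · exact absurd ⟨x, h', hx⟩ hk
    · refine Or.inr ?_
      have e1 : ρ ((s y * dA : ↥(X.comap ρ)) : C) = y.1 := by
        show ψ (s y * dA) = y.1
        rw [map_mul, ψd, mul_one, ψs]
      rw [e1]
      exact ⟨y.2.1, by rw [Subgroup.coe_mul, hdA]⟩

end Cfsg.Agent.H2.FiCentral
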